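import Groth.Prelude.Def_CurvBase
import Mathlib.AlgebraicGeometry.FunctionField
import Mathlib.FieldTheory.PrimitiveElement
import Mathlib.FieldTheory.Minpoly.IsIntegrallyClosed
import Mathlib.RingTheory.AlgebraicIndependent.Adjoin
import Mathlib.RingTheory.AlgebraicIndependent.TranscendenceBasis
import Mathlib.RingTheory.Localization.Integral
import Mathlib.RingTheory.Polynomial.UniqueFactorization
import Groth.Agent.H75.Birat.RatMap
import Groth.Agent.Lib.SmoothCurve.Curve

/-!
# A variety with separably generated function field is birational to a hypersurface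
-/

universe u

open CategoryTheory AlgebraicGeometry Polynomial

namespace Groth.Agent.Lib.BirMap96.Hypersurface

theorem exists_model (k L : Type u) [Field k] [Field L] [Algebra k L] [Algebra.EssFiniteType k L]
    (d : ℕ) (s : Fin d → L) (hs : IsTranscendenceBasis k s)
    (hsep : Algebra.IsSeparable (IntermediateField.adjoin k (Set.range s)) L) :
    ∃ g : (MvPolynomial (Fin d) k)[X], g.Monic ∧
      Irreducible (g.map (algebraMap (MvPolynomial (Fin d) k) (FractionRing (MvPolynomial (Fin d) k)))) ∧
      (g.map (algebraMap (MvPolynomial (Fin d) k) (FractionRing (MvPolynomial (Fin d) k)))).Separable ∧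
      IsDomain (AdjoinRoot g) ∧
      ∃ ι : AdjoinRoot g →ₐ[k] L, Function.Injective ι ∧
        ∀ z : L, ∃ a b, z = ι a / ι b := by
  have hx : AlgebraicIndependent k s := hs.1
  let R₀ := MvPolynomial (Fin d) k
  let K := FractionRing R₀
  let E := IntermediateField.adjoin k (Set.range s)
  let e : K ≃ₐ[k] E := hx.aevalEquivField
  letI : Algebra K L := ((algebraMap E L).comp e.toRingHom).toAlgebra
  letI : Algebra R₀ L := (MvPolynomial.aeval s).toRingHom.toAlgebra
  haveI : IsScalarTower R₀ K L := IsScalarTower.of_algebraMap_eq fun r =>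
    (hx.aevalEquivField_algebraMap_apply_coe r).symm
  haveI : IsScalarTower k K L := IsScalarTower.of_algebraMap_eq fun r => by
    change _ = algebraMap E L (e (algebraMap k K r))
    rw [e.commutes]
    rfl
  haveI : IsScalarTower k R₀ L := IsScalarTower.of_algebraMap_eq fun r =>
    ((MvPolynomial.aeval s).commutes r).symm
  haveI : FaithfulSMul R₀ L := (faithfulSMul_iff_algebraMap_injective _ _).mpr
    (algebraicIndependent_iff_injective_aeval.1 hx)
  haveI : Algebra.IsSeparable K L :=
    Algebra.IsSeparable.of_equiv_equiv e.symm.toRingEquiv (RingEquiv.refl L) (by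
      ext z
      exact congrArg (algebraMap E L) (e.apply_symm_apply z))
  haveI : Algebra.EssFiniteType K L := Algebra.EssFiniteType.of_comp k K L
  haveI : FiniteDimensional K L := Algebra.finite_of_essFiniteType_of_isAlgebraic
  obtain ⟨α, hα⟩ := Field.exists_primitive_element K L
  obtain ⟨m, hm⟩ := IsIntegral.exists_multiple_integral_of_isLocalization (nonZeroDivisors R₀)
    (Rₘ := K) α (Algebra.IsIntegral.isIntegral α)
  set θ : L := m • α with hθ
  have hθtop : IntermediateField.adjoin K {θ} = ⊤ := by
    rw [eq_top_iff, ← hα, IntermediateField.adjoin_simple_le_iff]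
    have hm0 : algebraMap R₀ K (m : R₀) ≠ 0 :=
      IsFractionRing.to_map_ne_zero_of_mem_nonZeroDivisors m.2
    have : α = algebraMap K L (algebraMap R₀ K (m : R₀))⁻¹ * θ := by
      rw [hθ, Submonoid.smul_def, Algebra.smul_def, IsScalarTower.algebraMap_apply R₀ K L,
        ← mul_assoc, ← map_mul, inv_mul_cancel₀ hm0, map_one, one_mul]
    rw [this]
    exact mul_mem (IntermediateField.algebraMap_mem _ _)
      (IntermediateField.mem_adjoin_simple_self K θ)
  let g := minpoly R₀ θ
  have hmap : g.map (algebraMap R₀ K) = minpoly K θ :=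
    (minpoly.isIntegrallyClosed_eq_field_fractions' K hm).symm
  have hθK : IsIntegral K θ := Algebra.IsIntegral.isIntegral θ
  haveI hdom : IsDomain (AdjoinRoot g) :=
    AdjoinRoot.isDomain_of_prime (minpoly.prime_of_isIntegrallyClosed hm)
  have hev : g.eval₂ (MvPolynomial.aeval s : R₀ →ₐ[k] L).toRingHom θ = 0 := minpoly.aeval R₀ θ
  let ι : AdjoinRoot g →ₐ[k] L := AdjoinRoot.liftAlgHom g (MvPolynomial.aeval s) θ hev
  have hι : ∀ p : R₀[X], ι (AdjoinRoot.mk g p) = Polynomial.aeval θ p := fun p =>
    AdjoinRoot.lift_mk (f := g) (i := (MvPolynomial.aeval s : R₀ →ₐ[k] L).toRingHom) (a := θ)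
      hev p
  refine ⟨g, minpoly.monic hm, hmap.symm ▸ minpoly.irreducible hθK,
    hmap.symm ▸ (Algebra.IsSeparable.isSeparable K θ), hdom, ι, ?_, ?_⟩
  · rw [injective_iff_map_eq_zero]
    intro a ha
    obtain ⟨p, rfl⟩ := AdjoinRoot.mk_surjective a
    rw [hι] at ha
    exact AdjoinRoot.mk_eq_zero.mpr (minpoly.isIntegrallyClosed_dvd hm ha)
  · intro z
    have hz : z ∈ Algebra.adjoin K {θ} := by
      rw [← IntermediateField.adjoin_simple_toSubalgebra_of_isAlgebraic hθK.isAlgebraic, hθtop]
      exact Algebra.mem_top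
    rw [Algebra.adjoin_singleton_eq_range_aeval] at hz
    obtain ⟨p, rfl⟩ := hz
    obtain ⟨b, hb⟩ := IsLocalization.integerNormalization_map_to_map (nonZeroDivisors R₀) p
    refine ⟨AdjoinRoot.mk g (IsLocalization.integerNormalization (nonZeroDivisors R₀) p),
      AdjoinRoot.mk g (Polynomial.C (b : R₀)), ?_⟩
    have hb0 : algebraMap R₀ L (b : R₀) ≠ 0 := by
      rw [IsScalarTower.algebraMap_apply R₀ K L]
      exact (_root_.map_ne_zero (algebraMap K L)).mpr (IsFractionRing.to_map_ne_zero_of_mem_nonZeroDivisors b.2)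
    rw [hι, hι, Polynomial.aeval_C, eq_div_iff hb0, ← Polynomial.aeval_map_algebraMap K, hb,
      algebra_compatible_smul K (b : R₀) p, map_smul, Algebra.smul_def,
      ← IsScalarTower.algebraMap_apply, mul_comm]
    rfl

variable {k : Type u} [Field k] {X : Scheme.{u}} [X.Over (Spec (CommRingCat.of k))] [IsIntegral X]

theorem fromSpecStalk_over (x : X) :
    X.fromSpecStalk x ≫ (X ↘ Spec (CommRingCat.of k)) =
      Spec.map (CommRingCat.ofHom (Curv2.stalkMap k X x)) := by
  rw [SmoothCurve.Curve.fromSpecStalk_comp]
  rfl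

theorem essFiniteType_stalkMap [LocallyOfFiniteType (X ↘ Spec (CommRingCat.of k))] (x : X) :
    (Curv2.stalkMap k X x).EssFiniteType := by
  set q := X ↘ Spec (CommRingCat.of k)
  let k' := CommRingCat.of k
  have h : CommRingCat.ofHom (Curv2.stalkMap k X x) =
      StructureSheaf.toStalk k' (q x) ≫ q.stalkMap x := by
    apply Spec.map_injective
    refine (fromSpecStalk_over x).symm.trans ?_
    refine (Scheme.SpecMap_stalkMap_fromSpecStalk q (x := x)).symm.trans ?_
    exact (congrArg (Spec.map (q.stalkMap x) ≫ ·) (Spec.fromSpecStalk_eq' k' (q x))).trans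
      (Spec.map_comp _ _).symm
  have h1 : (StructureSheaf.toStalk k' (q x)).hom.EssFiniteType := by
    letI : Algebra k' ((Spec k').presheaf.stalk (q x)) := StructureSheaf.stalkAlgebra _ _
    haveI : IsLocalization.AtPrime ((Spec k').presheaf.stalk (q x)) (q x).asIdeal :=
      StructureSheaf.IsLocalization.to_stalk k' (q x)
    exact Algebra.EssFiniteType.of_isLocalization _ (q x).asIdeal.primeCompl
  have h2 := RingHom.EssFiniteType.comp h1 (LocallyOfFiniteType.stalkMap q x)
  have h' := congrArg CommRingCat.Hom.hom h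
  simp only [CommRingCat.hom_ofHom, CommRingCat.hom_comp] at h'
  rw [h']
  exact h2

theorem birational_of_model [LocallyOfFiniteType (X ↘ Spec (CommRingCat.of k))]
    (A : Type u) [CommRing A] [IsDomain A] [Algebra k A] [Algebra.FiniteType k A]
    (ι : A →+* X.functionField) (hι : ι.comp (algebraMap k A) = Curv2.stalkMap k X (genericPoint X))
    (hinj : Function.Injective ι) (hsurj : ∀ z, ∃ a b, z = ι a / ι b) :
    ∃ (U : X.Opens) (V : (Spec (CommRingCat.of A)).Opens) (e : (U : Scheme.{u}) ≅ (V : Scheme.{u})),
      (U : Set X).Nonempty ∧ (V : Set (Spec (CommRingCat.of A))).Nonempty ∧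
      e.hom ≫ V.ι ≫ Spec.map (CommRingCat.ofHom (algebraMap k A)) =
        U.ι ≫ (X ↘ Spec (CommRingCat.of k)) := by
  letI : Algebra A X.functionField := ι.toAlgebra
  haveI : FaithfulSMul A X.functionField := (faithfulSMul_iff_algebraMap_injective _ _).mpr hinj
  haveI : IsFractionRing A X.functionField := IsFractionRing.of_field A X.functionField hsurj
  let A' := CommRingCat.of A
  haveI : IsDomain A' := ‹IsDomain A›
  letI algFF : Algebra A' (Spec A').functionField :=
    StructureSheaf.stalkAlgebra (A' : Type u) (genericPoint (Spec A'))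
  letI : Algebra A (Spec A').functionField := algFF
  haveI : IsFractionRing A (Spec A').functionField := functionField_isFractionRing_of_affine A'
  let σ : X.functionField ≃ₐ[A] (Spec A').functionField :=
    IsLocalization.algEquiv (nonZeroDivisors A) X.functionField (Spec A').functionField
  let e : X.presheaf.stalk (genericPoint X) ≅ (Spec A').presheaf.stalk (genericPoint (Spec A')) :=
    σ.toRingEquiv.toCommRingCatIso
  haveI : Subsingleton (Spec (CommRingCat.of k)) := inferInstanceAs (Subsingleton (PrimeSpectrum k))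
  let sY : Spec A' ⟶ Spec (CommRingCat.of k) := Spec.map (CommRingCat.ofHom (algebraMap k A))
  haveI : LocallyOfFiniteType sY :=
    (HasRingHomProperty.Spec_iff (P := @LocallyOfFiniteType)).mpr
      (RingHom.finiteType_algebraMap.mpr ‹Algebra.FiniteType k A›)
  have key : Scheme.BirationalOver (X ↘ Spec (CommRingCat.of k)) sY := by
    have hs : (X ↘ Spec (CommRingCat.of k)) (genericPoint X) = sY (genericPoint (Spec A')) :=
      Subsingleton.elim _ _
    refine H75.Birat.birationalOver_of_stalkIso _ _ hs e ?_
      (Or.inr ⟨inferInstance, inferInstance, inferInstance, inferInstance⟩)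
    refine (H75.Birat.stalk_comm_iff _ _ _ _ hs e.hom).mpr ?_
    rw [fromSpecStalk_over, Spec.fromSpecStalk_eq']
    refine (Spec.map_comp _ _).symm.trans ((congrArg Spec.map (CommRingCat.hom_ext
      (RingHom.ext fun r => ?_))).trans (Spec.map_comp _ _))
    change σ (Curv2.stalkMap k X (genericPoint X) r) =
      algebraMap A (Spec A').functionField (algebraMap k A r)
    rw [← hι]
    exact σ.commutes _
  obtain ⟨p, hp⟩ := key
  exact ⟨p.source, p.target, p.iso, p.dense_source.nonempty, p.dense_target.nonempty, hp⟩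

end Groth.Agent.Lib.BirMap96.Hypersurface
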