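import Mathlib.RingTheory.Smooth.Local
import Mathlib.RingTheory.Kaehler.JacobiZariski
import Mathlib.RingTheory.LocalRing.Module
import Mathlib.RingTheory.EssentialFiniteness
import Mathlib.RingTheory.Smooth.Kaehler
import Mathlib.RingTheory.Ideal.Cotangent
import Mathlib.RingTheory.Finiteness.Prod
import Mathlib.RingTheory.TensorProduct.Free
import Mathlib.LinearAlgebra.Dual.Lemmas

/-!
# Smoothness of a map between smooth local algebras

For formally smooth local `k`-algebras `A → B` with residue field `k`, formal smoothness of `B/A`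
is equivalent to injectivity of the cotangent map.
-/

set_option autoImplicit false
universe u

open TensorProduct IsLocalRing KaehlerDifferential

namespace Groth.Agent.Lib.BirMap96.SmoothCrit

variable {k A B : Type u} [Field k] [CommRing A] [CommRing B] [IsLocalRing A] [IsLocalRing B]
  [Algebra k A] [Algebra k B] [Algebra A B] [IsScalarTower k A B]

/-- The cotangent map is injective. -/
def CotInjective (A B : Type u) [CommRing A] [CommRing B] [IsLocalRing A] [IsLocalRing B]
    [Algebra A B] : Prop :=
  ∀ z ∈ maximalIdeal A, algebraMap A B z ∈ maximalIdeal B ^ 2 → z ∈ maximalIdeal A ^ 2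

theorem free_kaehler (k B : Type u) [Field k] [CommRing B] [IsLocalRing B] [Algebra k B]
    [Algebra.FormallySmooth k B] [Algebra.EssFiniteType k B] :
    Module.Free B (Ω[B⁄k]) :=
  Module.free_of_flat_of_isLocalRing

/-- A split injective base change map with free target gives formal smoothness. -/
theorem formallySmooth_of_retraction [Algebra.FormallySmooth k B]
    (r : Ω[B⁄k] →ₗ[B] B ⊗[A] Ω[A⁄k]) (hr : r ∘ₗ mapBaseChange k A B = LinearMap.id) :
    Algebra.FormallySmooth A B := by
  have hinj : Function.Injective (mapBaseChange k A B) :=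
    Function.HasLeftInverse.injective ⟨r, LinearMap.congr_fun hr⟩
  refine ⟨?_, ?_⟩
  · obtain ⟨s, hs⟩ := (((exact_mapBaseChange_map k A B).split_tfae hinj
      (KaehlerDifferential.map_surjective k A B)).out 1 0 rfl rfl).mp ⟨r, hr⟩
    exact Module.Projective.of_split s (KaehlerDifferential.map k A B B) hs
  · refine subsingleton_of_forall_eq 0 fun y => ?_
    have h1 : Algebra.H1Cotangent.δ k A B y = 0 := hinj (by
      rw [map_zero]
      exact ((Algebra.H1Cotangent.exact_δ_mapBaseChange k A B) _).mpr ⟨y, rfl⟩)
    obtain ⟨w, rfl⟩ := ((Algebra.H1Cotangent.exact_map_δ k A B) _).mp h1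
    rw [Subsingleton.elim w 0, map_zero]

/-- Formally smooth maps have split injective base change maps. -/
theorem exists_retraction [Algebra.FormallySmooth A B] :
    ∃ r : Ω[B⁄k] →ₗ[B] B ⊗[A] Ω[A⁄k], r ∘ₗ mapBaseChange k A B = LinearMap.id := by
  have hinj : Function.Injective (mapBaseChange k A B) := by
    rw [injective_iff_map_eq_zero]
    intro y hy
    obtain ⟨w, rfl⟩ := ((Algebra.H1Cotangent.exact_δ_mapBaseChange k A B) _).mp hy
    rw [Subsingleton.elim w 0, map_zero]
  exact (((exact_mapBaseChange_map k A B).split_tfae hinj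
    (KaehlerDifferential.map_surjective k A B)).out 0 1 rfl rfl).mp
      (Module.projective_lifting_property _ _ (KaehlerDifferential.map_surjective k A B))

/-- Formal smoothness from the ranks of the modules of differentials. -/
theorem formallySmooth_of_ranks [Algebra.FormallySmooth k B] [Algebra.FormallySmooth k A]
    [Algebra.EssFiniteType k A] [Algebra.EssFiniteType k B]
    [Module.Free B (Ω[B⁄A])] [Module.Finite B (Ω[B⁄A])]
    (h : Module.finrank B (Ω[B⁄k]) = Module.finrank A (Ω[A⁄k]) + Module.finrank B (Ω[B⁄A])) :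
    Algebra.FormallySmooth A B := by
  haveI := free_kaehler k A
  haveI := free_kaehler k B
  haveI : Module.Finite B (B ⊗[A] Ω[A⁄k]) := Module.Finite.base_change A B _
  haveI : Module.Free B (B ⊗[A] Ω[A⁄k]) := inferInstance
  obtain ⟨s, hs⟩ := Module.projective_lifting_property (KaehlerDifferential.map k A B B)
    LinearMap.id (KaehlerDifferential.map_surjective k A B)
  let Φ : (B ⊗[A] Ω[A⁄k]) × Ω[B⁄A] →ₗ[B] Ω[B⁄k] := (mapBaseChange k A B).coprod s
  have hsurj : Function.Surjective Φ := fun w => by
    obtain ⟨v, hv⟩ := ((exact_mapBaseChange_map k A B)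
      (w - s (KaehlerDifferential.map k A B B w))).mp (by
        rw [map_sub, show KaehlerDifferential.map k A B B (s _) = _ from LinearMap.congr_fun hs _,
          LinearMap.id_apply, sub_self])
    exact ⟨(v, KaehlerDifferential.map k A B B w), by simp [Φ, hv]⟩
  let e : Ω[B⁄k] ≃ₗ[B] (B ⊗[A] Ω[A⁄k]) × Ω[B⁄A] := LinearEquiv.ofFinrankEq _ _ (by
    rw [Module.finrank_prod, Module.finrank_baseChange, h])
  have hbij : Function.Bijective Φ := by
    refine ⟨?_, hsurj⟩
    have := OrzechProperty.injective_of_surjective_endomorphism (e.toLinearMap ∘ₗ Φ)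
      (e.surjective.comp hsurj)
    rw [LinearMap.coe_comp] at this
    exact this.of_comp
  refine formallySmooth_of_retraction (k := k)
    (LinearMap.fst B _ _ ∘ₗ (LinearEquiv.ofBijective Φ hbij).symm.toLinearMap) ?_
  refine LinearMap.ext fun v => ?_
  have : (LinearEquiv.ofBijective Φ hbij).symm (mapBaseChange k A B v) = (v, 0) := by
    rw [LinearEquiv.symm_apply_eq]
    simp [Φ]
  simp [this]

section Residue

omit [IsLocalRing A] [Algebra k A] [Algebra A B] [IsScalarTower k A B] in
theorem exists_cotMap (hB : Function.Surjective ((residue B).comp (algebraMap k B))) :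
    ∃ Φ : ResidueField B ⊗[B] Ω[B⁄k] →ₗ[ResidueField B] CotangentSpace B,
      ∀ (z : B) (hz : z ∈ maximalIdeal B),
        Φ ((1 : ResidueField B) ⊗ₜ[B] D k B z) = (maximalIdeal B).toCotangent ⟨z, hz⟩ := by
  choose s hs using fun b : B => hB (residue B b)
  have hm : ∀ b, b - algebraMap k B (s b) ∈ maximalIdeal B := fun b => by
    rw [← residue_eq_zero_iff, map_sub, sub_eq_zero]
    exact (hs b).symm
  let δ₀ : B → CotangentSpace B := fun b =>
    (maximalIdeal B).toCotangent ⟨b - algebraMap k B (s b), hm b⟩
  have hinj : Function.Injective ((residue B).comp (algebraMap k B)) := RingHom.injective _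
  have hadd : ∀ a b, s (a + b) = s a + s b := fun a b => hinj (by simp only [map_add, hs])
  have hmul : ∀ a b, s (a * b) = s a * s b := fun a b => hinj (by simp only [map_mul, hs])
  have hc : ∀ c, s (algebraMap k B c) = c := fun c => hinj (by rw [hs]; rfl)
  have hδa : ∀ a b, δ₀ (a + b) = δ₀ a + δ₀ b := fun a b => by
    rw [← map_add]
    exact congrArg _ (Subtype.ext (by simp [hadd]; ring))
  have hδm : ∀ a b, δ₀ (a * b) = a • δ₀ b + b • δ₀ a := fun a b => by
    rw [← map_smul, ← map_smul, ← map_add, Ideal.toCotangent_eq]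
    have h2 : (a - algebraMap k B (s a)) * (b - algebraMap k B (s b)) ∈ maximalIdeal B ^ 2 := by
      rw [pow_two]
      exact Ideal.mul_mem_mul (hm a) (hm b)
    convert (maximalIdeal B ^ 2).neg_mem h2 using 1
    simp only [Submodule.coe_add, Submodule.coe_smul, smul_eq_mul, hmul, map_mul]
    ring
  let δ : Derivation k B (CotangentSpace B) :=
    Derivation.mk'
      { toFun := δ₀
        map_add' := hδa
        map_smul' := fun c a => by
          have h0 : δ₀ (algebraMap k B c) = 0 := by
            simp only [δ₀, hc, sub_self]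
            exact map_zero _
          rw [Algebra.smul_def, hδm, h0, smul_zero, add_zero, RingHom.id_apply, algebraMap_smul] }
      hδm
  refine ⟨δ.liftKaehlerDifferential.liftBaseChange (ResidueField B), fun z hz => ?_⟩
  rw [LinearMap.liftBaseChange_tmul, one_smul, Derivation.liftKaehlerDifferential_comp_D]
  have hsz : s z = 0 := hinj (by rw [hs, map_zero, residue_eq_zero_iff]; exact hz)
  exact congrArg _ (Subtype.ext (by simp [hsz]))

omit [IsLocalRing A] [Algebra k A] [Algebra A B] [IsScalarTower k A B] in
/-- Over the residue field `k`, a differential killed modulo the maximal ideal comes from `m²`. -/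
theorem mem_sq_of_tmul_eq_zero
    (hB : Function.Surjective ((residue B).comp (algebraMap k B))) {z : B} (hz : z ∈ maximalIdeal B)
    (h : (1 : ResidueField B) ⊗ₜ[B] D k B z = 0) : z ∈ maximalIdeal B ^ 2 := by
  obtain ⟨Φ, hΦ⟩ := exists_cotMap hB
  have h1 := hΦ z hz
  rw [h, map_zero] at h1
  exact (Ideal.toCotangent_eq_zero _ _).mp h1.symm

variable [IsLocalHom (algebraMap A B)]

/-- `T ω = 1 ⊗ (1 ⊗ ω)`. -/
noncomputable abbrev T (ω : Ω[A⁄k]) : ResidueField B ⊗[B] (B ⊗[A] Ω[A⁄k]) :=
  (1 : ResidueField B) ⊗ₜ[B] ((1 : B) ⊗ₜ[A] ω)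

omit [IsLocalRing A] [IsScalarTower k A B] [IsLocalHom (algebraMap A B)] in
theorem T_smul (r : A) (ω : Ω[A⁄k]) :
    T (B := B) (r • ω) = residue B (algebraMap A B r) • T (B := B) ω := by
  rw [T, T, TensorProduct.tmul_smul, ← algebraMap_smul B r ((1 : B) ⊗ₜ[A] ω),
    TensorProduct.tmul_smul, ← ResidueField.algebraMap_eq, algebraMap_smul]
  exact (algebraMap_smul B r _).symm

omit [IsScalarTower k A B] in
theorem residue_map_eq {r r' : A} (h : residue A r = residue A r') :
    residue B (algebraMap A B r) = residue B (algebraMap A B r') := by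
  have h' : r - r' ∈ maximalIdeal A := by rw [← residue_eq_zero_iff, map_sub, h, sub_self]
  rw [← sub_eq_zero, ← map_sub, ← map_sub, residue_eq_zero_iff]
  exact IsLocalRing.map_maximalIdeal_le (algebraMap A B) (Ideal.mem_map_of_mem _ h')

theorem exists_eq_T_D (hA : Function.Surjective ((residue A).comp (algebraMap k A)))
    (hB : Function.Surjective ((residue B).comp (algebraMap k B)))
    (y : ResidueField B ⊗[B] (B ⊗[A] Ω[A⁄k])) :
    ∃ z ∈ maximalIdeal A, y = T (B := B) (D k A z) := by
  have hω : ∀ ω : Ω[A⁄k], ∃ z ∈ maximalIdeal A, T (B := B) ω = T (B := B) (D k A z) := fun ω => by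
    have := KaehlerDifferential.span_range_derivation k A ▸ Submodule.mem_top (x := ω)
    induction this using Submodule.span_induction with
    | mem x hx =>
      obtain ⟨a, rfl⟩ := hx
      obtain ⟨c, hc⟩ := hA (residue A a)
      refine ⟨a - algebraMap k A c, ?_, ?_⟩
      · rw [← residue_eq_zero_iff, map_sub, ← hc]
        exact sub_self _
      · rw [map_sub, Derivation.map_algebraMap, sub_zero]
    | zero => exact ⟨0, zero_mem _, by rw [map_zero]⟩
    | add x y _ _ hx hy =>
      obtain ⟨z, hz, e⟩ := hx
      obtain ⟨z', hz', e'⟩ := hy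
      refine ⟨z + z', add_mem hz hz', ?_⟩
      rw [map_add]
      simp only [T, TensorProduct.tmul_add] at e e' ⊢
      rw [e, e']
    | smul r x _ hx =>
      obtain ⟨z, hz, e⟩ := hx
      obtain ⟨c, hc⟩ := hA (residue A r)
      refine ⟨c • z, Submodule.smul_of_tower_mem _ c hz, ?_⟩
      rw [T_smul, residue_map_eq (r' := algebraMap k A c) hc.symm, e, Derivation.map_smul,
        ← algebraMap_smul A c (D k A z), T_smul]
  suffices h : ∃ ω : Ω[A⁄k], y = T (B := B) ω by
    obtain ⟨ω, rfl⟩ := h
    exact hω ω
  induction y using TensorProduct.induction_on with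
  | zero => exact ⟨0, by simp [T]⟩
  | add a b ha hb =>
    obtain ⟨ω, rfl⟩ := ha
    obtain ⟨ω', rfl⟩ := hb
    exact ⟨ω + ω', by simp only [T, TensorProduct.tmul_add]⟩
  | tmul c w =>
    induction w using TensorProduct.induction_on with
    | zero => exact ⟨0, by simp [T]⟩
    | add a b ha hb =>
      obtain ⟨ω, e⟩ := ha
      obtain ⟨ω', e'⟩ := hb
      refine ⟨ω + ω', ?_⟩
      rw [TensorProduct.tmul_add, e, e']
      simp only [T, TensorProduct.tmul_add]
    | tmul b ω =>
      obtain ⟨d, hd⟩ := hB (c * residue B b)
      refine ⟨algebraMap k A d • ω, ?_⟩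
      rw [T_smul, ← IsScalarTower.algebraMap_apply k A B,
        show residue B (algebraMap k B d) = c * residue B b from hd, mul_smul,
        ← ResidueField.algebraMap_eq, algebraMap_smul, ← TensorProduct.tmul_smul,
        TensorProduct.smul_tmul', TensorProduct.smul_tmul', smul_eq_mul, mul_one, smul_eq_mul, mul_one]

theorem T_D_eq_zero {z : A} (hz : z ∈ maximalIdeal A ^ 2) : T (B := B) (D k A z) = 0 := by
  rw [pow_two] at hz
  refine Submodule.mul_induction_on hz (fun a ha b hb => ?_) fun x y hx hy => ?_
  · have h0 : ∀ r ∈ maximalIdeal A, residue B (algebraMap A B r) = 0 := fun r hr =>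
      (residue_eq_zero_iff _).mpr
        (IsLocalRing.map_maximalIdeal_le (algebraMap A B) (Ideal.mem_map_of_mem _ hr))
    have h1 : T (B := B) (a • D k A b + b • D k A a) = 0 := by
      have e1 := T_smul (B := B) (k := k) a (D k A b)
      have e2 := T_smul (B := B) (k := k) b (D k A a)
      simp only [T, TensorProduct.tmul_add] at e1 e2 ⊢
      rw [e1, e2, h0 a ha, h0 b hb, zero_smul, zero_smul, add_zero]
    rwa [Derivation.leibniz]
  · simp only [T, map_add, TensorProduct.tmul_add] at hx hy ⊢
    rw [hx, hy, add_zero]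

/-- Injective cotangent map gives formal smoothness. -/
theorem formallySmooth_of_cotInjective [Algebra.FormallySmooth k B]
    [Algebra.EssFiniteType k A] [Algebra.EssFiniteType k B]
    (hA : Function.Surjective ((residue A).comp (algebraMap k A)))
    (hB : Function.Surjective ((residue B).comp (algebraMap k B)))
    (h : CotInjective A B) : Algebra.FormallySmooth A B := by
  haveI := free_kaehler k B
  obtain ⟨r, hr⟩ := (IsLocalRing.split_injective_iff_lTensor_residueField_injective
    (mapBaseChange k A B)).mpr ((injective_iff_map_eq_zero _).mpr fun y hy => by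
      obtain ⟨z, hz, rfl⟩ := exists_eq_T_D hA hB y
      rw [T, LinearMap.lTensor_tmul, mapBaseChange_tmul, one_smul,
        KaehlerDifferential.map_D] at hy
      exact T_D_eq_zero (h z hz (mem_sq_of_tmul_eq_zero hB
        (IsLocalRing.map_maximalIdeal_le (algebraMap A B) (Ideal.mem_map_of_mem _ hz)) hy)))
  exact formallySmooth_of_retraction r hr

/-- Formal smoothness gives an injective cotangent map. -/
theorem cotInjective_of_formallySmooth [Algebra.FormallySmooth A B]
    (hA : Function.Surjective ((residue A).comp (algebraMap k A)))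
    (hB : Function.Surjective ((residue B).comp (algebraMap k B))) :
    CotInjective A B := by
  intro z hz hzB
  obtain ⟨r, hr⟩ := exists_retraction (k := k) (A := A) (B := B)
  have h1 : (1 : ResidueField B) ⊗ₜ[B] D k B (algebraMap A B z) = 0 := by
    rw [pow_two] at hzB
    refine Submodule.mul_induction_on hzB (fun a ha b hb => ?_) fun x y hx hy => ?_
    · rw [Derivation.leibniz, TensorProduct.tmul_add, TensorProduct.tmul_smul,
        TensorProduct.tmul_smul, ← algebraMap_smul (ResidueField B) a,
        ← algebraMap_smul (ResidueField B) b, ResidueField.algebraMap_eq,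
        (residue_eq_zero_iff _).mpr ha, (residue_eq_zero_iff _).mpr hb, zero_smul, zero_smul,
        add_zero]
    · rw [map_add, TensorProduct.tmul_add, hx, hy, add_zero]
  have h2 : T (B := B) (D k A z) = 0 := by
    have e := congrArg (r.lTensor (ResidueField B)) h1
    rw [map_zero, LinearMap.lTensor_tmul] at e
    have e' : r (D k B (algebraMap A B z)) = (1 : B) ⊗ₜ[A] D k A z := by
      have := LinearMap.congr_fun hr ((1 : B) ⊗ₜ[A] D k A z)
      rwa [LinearMap.comp_apply, mapBaseChange_tmul, one_smul, KaehlerDifferential.map_D] at this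
    rwa [e'] at e
  choose s hs using fun b : A => hA (residue A b)
  have hinjA : Function.Injective ((residue A).comp (algebraMap k A)) := RingHom.injective _
  have hm : ∀ b, b - algebraMap k A (s b) ∈ maximalIdeal A := fun b => by
    rw [← residue_eq_zero_iff, map_sub, sub_eq_zero]
    exact (hs b).symm
  have hsa : ∀ a b, s (a + b) = s a + s b := fun a b => hinjA (by simp only [map_add, hs])
  have hsm : ∀ a b, s (a * b) = s a * s b := fun a b => hinjA (by simp only [map_mul, hs])
  have hsc : ∀ c, s (algebraMap k A c) = c := fun c => hinjA (by rw [hs]; rfl)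
  rw [← Ideal.toCotangent_eq_zero _ ⟨z, hz⟩]
  by_contra hne
  obtain ⟨l, hl⟩ : ∃ l : Module.Dual k (CotangentSpace A),
      l ((maximalIdeal A).toCotangent ⟨z, hz⟩) ≠ 0 := by
    by_contra hc
    push Not at hc
    exact hne ((Module.forall_dual_apply_eq_zero_iff k _).mp hc)
  let δ₀ : A → k := fun a => l ((maximalIdeal A).toCotangent ⟨a - algebraMap k A (s a), hm a⟩)
  have hδa : ∀ a b, δ₀ (a + b) = δ₀ a + δ₀ b := fun a b => by
    rw [← map_add, ← map_add]
    exact congrArg _ (congrArg _ (Subtype.ext (by simp [hsa]; ring)))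
  have hδm : ∀ a b, δ₀ (a * b) = s a * δ₀ b + s b * δ₀ a := fun a b => by
    simp only [δ₀]
    rw [← smul_eq_mul (s a), ← smul_eq_mul (s b), ← map_smul l, ← map_smul l, ← map_add l]
    refine congrArg _ ?_
    rw [← algebraMap_smul A (s a), ← algebraMap_smul A (s b), ← map_smul, ← map_smul, ← map_add,
      Ideal.toCotangent_eq]
    have h3 : (a - algebraMap k A (s a)) * (b - algebraMap k A (s b)) ∈ maximalIdeal A ^ 2 := by
      rw [pow_two]
      exact Ideal.mul_mem_mul (hm a) (hm b)
    convert h3 using 1
    simp only [Submodule.coe_add, Submodule.coe_smul, smul_eq_mul, hsm, map_mul]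
    ring
  have hres : ∀ a, residue B (algebraMap A B a) = residue B (algebraMap k B (s a)) := fun a => by
    rw [IsScalarTower.algebraMap_apply k A B]
    exact residue_map_eq (hs a).symm
  let δ : Derivation k A (ResidueField B) :=
    Derivation.mk'
      { toFun := fun a => residue B (algebraMap k B (δ₀ a))
        map_add' := fun a b => by rw [hδa, map_add, map_add]
        map_smul' := fun c a => by
          have h0 : δ₀ (algebraMap k A c) = 0 := by
            simp only [δ₀, hsc, sub_self]
            exact (congrArg l (map_zero _)).trans (map_zero _)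
          rw [Algebra.smul_def c a, hδm, h0, mul_zero, add_zero, hsc, map_mul, map_mul,
            RingHom.id_apply, Algebra.smul_def c (residue B _)]
          rfl }
      fun a b => by
        change residue B (algebraMap k B (δ₀ (a * b))) =
          a • residue B (algebraMap k B (δ₀ b)) + b • residue B (algebraMap k B (δ₀ a))
        rw [hδm, map_add, map_add, map_mul, map_mul, map_mul, map_mul, ← hres, ← hres,
          Algebra.smul_def, Algebra.smul_def, IsScalarTower.algebraMap_apply A B (ResidueField B),
          IsScalarTower.algebraMap_apply A B (ResidueField B), ResidueField.algebraMap_eq]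
  have h4 := congrArg
    ((δ.liftKaehlerDifferential.liftBaseChange B).liftBaseChange (ResidueField B)) h2
  rw [map_zero, T, LinearMap.liftBaseChange_tmul, one_smul, LinearMap.liftBaseChange_tmul,
    one_smul, Derivation.liftKaehlerDifferential_comp_D] at h4
  have h5 : δ₀ z = 0 := ((residue B).comp (algebraMap k B)).injective (h4.trans (map_zero _).symm)
  have hsz : s z = 0 := hinjA (by rw [hs, map_zero, residue_eq_zero_iff]; exact hz)
  exact hl ((congrArg l (congrArg _ (Subtype.ext (by simp [hsz])))).trans h5)

omit [IsLocalRing A] [Algebra k A] [Algebra A B] [IsScalarTower k A B] [IsLocalHom (algebraMap A B)] in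
/-- The rank of the differentials is the embedding dimension. -/
theorem finrank_kaehler [Algebra.FormallySmooth k B] [Algebra.EssFiniteType k B]
    (hB : Function.Surjective ((residue B).comp (algebraMap k B))) :
    Module.finrank B (Ω[B⁄k]) = Module.finrank (ResidueField B) (CotangentSpace B) := by
  haveI := free_kaehler k B
  haveI : IsLocalHom (algebraMap B B) := ⟨fun _ h => h⟩
  obtain ⟨Φ, hΦ⟩ := exists_cotMap hB
  have hD : ∀ y : ResidueField B ⊗[B] Ω[B⁄k],
      ∃ z ∈ maximalIdeal B, y = (1 : ResidueField B) ⊗ₜ[B] D k B z := fun y => by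
    obtain ⟨z, hz, e⟩ := exists_eq_T_D (A := B) (B := B) hB hB
      ((TensorProduct.lid B (Ω[B⁄k])).symm.toLinearMap.lTensor (ResidueField B) y)
    refine ⟨z, hz, ?_⟩
    have e' := congrArg ((TensorProduct.lid B (Ω[B⁄k])).toLinearMap.lTensor (ResidueField B)) e
    rw [← LinearMap.comp_apply, ← LinearMap.lTensor_comp, LinearEquiv.comp_symm,
      LinearMap.lTensor_id, LinearMap.id_apply, T, LinearMap.lTensor_tmul] at e'
    rw [e']
    simp
  have hbij : Function.Bijective Φ := by
    refine ⟨(injective_iff_map_eq_zero _).mpr fun y hy => ?_, fun w => ?_⟩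
    · obtain ⟨z, hz, rfl⟩ := hD y
      rw [hΦ z hz, Ideal.toCotangent_eq_zero] at hy
      have h1 := T_D_eq_zero (k := k) (A := B) (B := B) hy
      have e' := congrArg ((TensorProduct.lid B (Ω[B⁄k])).toLinearMap.lTensor (ResidueField B)) h1
      rw [T, LinearMap.lTensor_tmul, map_zero] at e'
      simpa using e'
    · obtain ⟨⟨z, hz⟩, rfl⟩ := Ideal.toCotangent_surjective _ w
      exact ⟨_, hΦ z hz⟩
  rw [← (LinearEquiv.ofBijective Φ hbij).finrank_eq, Module.finrank_baseChange]

end Residue

end Groth.Agent.Lib.BirMap96.SmoothCrit
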