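import Groth.Prelude.Def_FixPt
import Groth.Agent.Lib.BirMap96.SmoothCrit
import Groth.Agent.Lib.BirMap96.Hypersurface
import Groth.Agent.H25.Node.Scheme
import Groth.Agent.Lib.ZarCoh.Linear
import Groth.Agent.Lib.RelDimFormula.Basic
import Groth.Agent.Lib.JacCrit.OverField
import Groth.Agent.Lib.Kaehler.DOmega
import Groth.Agent.Lib.Kaehler.SmoothChart
import Groth.Agent.Lib.JacCrit.Scheme
import Groth.Agent.Lib.JacCrit.RankEtale
import Groth.Agent.Lib.Flat55.DimSums
import Groth.Agent.Lib.ProjCoh.DualityCM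

/-!
# Smoothness of morphisms between smooth varieties: cotangent maps and differentials
-/

set_option autoImplicit false
set_option linter.style.haveILetI false
universe u

open CategoryTheory CategoryTheory.Limits AlgebraicGeometry IsLocalRing TopologicalSpace TensorProduct
open Groth.Agent.Lib

namespace Groth.Agent.Lib.BirMap96.SmoothCritScheme

attribute [local instance] Curv2.stalkAlgebra

variable {k : Type u} [Field k] {X Y : Scheme.{u}} [X.Over (Spec (CommRingCat.of k))]
  [Y.Over (Spec (CommRingCat.of k))] (f : X ⟶ Y)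

theorem stalkMap_comp (hf : f ≫ (Y ↘ Spec (CommRingCat.of k)) = X ↘ Spec (CommRingCat.of k)) (x : X) :
    (f.stalkMap x).hom.comp (Curv2.stalkMap k Y (f x)) = Curv2.stalkMap k X x := by
  refine RingHom.ext fun c => ?_
  change f.stalkMap x (Y.presheaf.germ ⊤ (f x) trivial (Coh.toGlobal (Y ↘ Spec (CommRingCat.of k)) c)) =
    X.presheaf.germ ⊤ x trivial (Coh.toGlobal (X ↘ Spec (CommRingCat.of k)) c)
  rw [ZarCoh.Linear.toGlobal_comp f hf]
  exact Scheme.Hom.germ_stalkMap_apply f ⊤ x trivial _

variable (k) in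
theorem toStalk_eq (x : X) :
    CommRingCat.ofHom (Curv2.stalkMap k X x) =
      StructureSheaf.toStalk (CommRingCat.of k) ((X ↘ Spec (CommRingCat.of k)) x) ≫
        (X ↘ Spec (CommRingCat.of k)).stalkMap x := by
  set q := X ↘ Spec (CommRingCat.of k)
  apply Spec.map_injective
  refine Eq.trans ?_ (((Scheme.SpecMap_stalkMap_fromSpecStalk q (x := x)).symm.trans
    ((congrArg (Spec.map (q.stalkMap x) ≫ ·) (Spec.fromSpecStalk_eq' (CommRingCat.of k) (q x))).trans
      (Spec.map_comp _ _).symm)))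
  rw [SmoothCurve.Curve.fromSpecStalk_comp]
  rfl

variable (k) in
theorem formallySmooth_stalk_of_mem [LocallyOfFinitePresentation (X ↘ Spec (CommRingCat.of k))]
    (x : X) (hx : x ∈ (X ↘ Spec (CommRingCat.of k)).smoothLocus) :
    Algebra.FormallySmooth k (X.presheaf.stalk x) := by
  set q := X ↘ Spec (CommRingCat.of k)
  let k' := CommRingCat.of k
  have h : CommRingCat.ofHom (Curv2.stalkMap k X x) =
      StructureSheaf.toStalk k' (q x) ≫ q.stalkMap x := by
    apply Spec.map_injective
    refine Eq.trans ?_ (((Scheme.SpecMap_stalkMap_fromSpecStalk q (x := x)).symm.trans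
      ((congrArg (Spec.map (q.stalkMap x) ≫ ·) (Spec.fromSpecStalk_eq' k' (q x))).trans
        (Spec.map_comp _ _).symm)))
    rw [SmoothCurve.Curve.fromSpecStalk_comp]
    rfl
  haveI : (q x).asIdeal.IsPrime := (show PrimeSpectrum k' from q x).isPrime
  have h1 : (StructureSheaf.toStalk k' (q x)).hom.FormallySmooth := by
    letI : Algebra k' ((Spec k').presheaf.stalk (q x)) := StructureSheaf.stalkAlgebra _ _
    haveI : IsLocalization.AtPrime ((Spec k').presheaf.stalk (q x)) (q x).asIdeal :=
      StructureSheaf.IsLocalization.to_stalk k' (q x)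
    exact Algebra.FormallySmooth.of_isLocalization (q x).asIdeal.primeCompl
      (Rₘ := (Spec k').presheaf.stalk (q x))
  have h2 : (q.stalkMap x).hom.FormallySmooth := by
    exact Scheme.Hom.mem_smoothLocus.mp hx
  have h' := congrArg CommRingCat.Hom.hom h
  simp only [CommRingCat.hom_ofHom, CommRingCat.hom_comp] at h'
  have h3 := h1
  letI : Algebra k ((Spec k').presheaf.stalk (q x)) :=
    RingHom.toAlgebra (StructureSheaf.toStalk k' (q x)).hom
  letI : Algebra ((Spec k').presheaf.stalk (q x)) (X.presheaf.stalk x) := (q.stalkMap x).hom.toAlgebra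
  haveI : Algebra.FormallySmooth k ((Spec k').presheaf.stalk (q x)) := h3
  haveI : Algebra.FormallySmooth ((Spec k').presheaf.stalk (q x)) (X.presheaf.stalk x) := h2
  haveI : IsScalarTower k ((Spec k').presheaf.stalk (q x)) (X.presheaf.stalk x) :=
    IsScalarTower.of_algebraMap_eq fun c => RingHom.congr_fun h' c
  exact Algebra.FormallySmooth.comp k ((Spec k').presheaf.stalk (q x)) _

variable (k) in
theorem formallySmooth_stalk [Smooth (X ↘ Spec (CommRingCat.of k))] (x : X) :
    Algebra.FormallySmooth k (X.presheaf.stalk x) :=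
  formallySmooth_stalk_of_mem k x (by rw [Scheme.Hom.smoothLocus_eq_top]; trivial)

variable (k) in
theorem essFiniteType_stalk [LocallyOfFiniteType (X ↘ Spec (CommRingCat.of k))] (x : X) :
    Algebra.EssFiniteType k (X.presheaf.stalk x) := by
  set q := X ↘ Spec (CommRingCat.of k)
  let k' := CommRingCat.of k
  haveI : (q x).asIdeal.IsPrime := (show PrimeSpectrum k' from q x).isPrime
  have h1 : (StructureSheaf.toStalk k' (q x)).hom.EssFiniteType := by
    letI : Algebra k' ((Spec k').presheaf.stalk (q x)) := StructureSheaf.stalkAlgebra _ _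
    haveI : IsLocalization.AtPrime ((Spec k').presheaf.stalk (q x)) (q x).asIdeal :=
      StructureSheaf.IsLocalization.to_stalk k' (q x)
    exact Algebra.EssFiniteType.of_isLocalization ((Spec k').presheaf.stalk (q x)) (q x).asIdeal.primeCompl
  have h2 := RingHom.EssFiniteType.comp h1 (LocallyOfFiniteType.stalkMap q x)
  have h' := congrArg CommRingCat.Hom.hom (toStalk_eq k x)
  simp only [CommRingCat.hom_ofHom, CommRingCat.hom_comp] at h'
  change (Curv2.stalkMap k X x).EssFiniteType
  rw [h']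
  exact h2

omit [X.Over (Spec (CommRingCat.of k))] [Y.Over (Spec (CommRingCat.of k))] in
theorem cotInjective_iff (x : X) :
    letI := (f.stalkMap x).hom.toAlgebra
    SmoothCrit.CotInjective (Y.presheaf.stalk (f x)) (X.presheaf.stalk x) ↔
      Function.Injective (FixPt.cotangentMapAt f x (f x) rfl) := by
  letI := (f.stalkMap x).hom.toAlgebra
  have key : ∀ a, FixPt.stalkMapAt f x (f x) rfl a = f.stalkMap x a := fun a => by
    simp [FixPt.stalkMapAt]
  have hval : ∀ (z : Y.presheaf.stalk (f x)) (hz : z ∈ maximalIdeal (Y.presheaf.stalk (f x))),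
      FixPt.cotangentMapAt f x (f x) rfl ((maximalIdeal _).toCotangent ⟨z, hz⟩) = 0 ↔
        algebraMap _ (X.presheaf.stalk x) z ∈ maximalIdeal (X.presheaf.stalk x) ^ 2 := fun z hz => by
    rw [FixPt.cotangentMapAt]
    erw [Ideal.mapCotangent_toCotangent]
    rw [Ideal.toCotangent_eq_zero]
    change FixPt.stalkMapAt f x (f x) rfl z ∈ _ ↔ _
    rw [key]
    rfl
  rw [injective_iff_map_eq_zero]
  constructor
  · intro h w hw
    obtain ⟨⟨z, hz⟩, rfl⟩ := Ideal.toCotangent_surjective _ w
    exact (Ideal.toCotangent_eq_zero _ _).mpr (h z hz ((hval z hz).mp hw))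
  · intro h z hz hzB
    exact (Ideal.toCotangent_eq_zero _ ⟨z, hz⟩).mp (h _ ((hval z hz).mpr hzB))

section Main

variable [IsAlgClosed k] [IsIntegral X] [IsIntegral Y]
  [LocallyOfFiniteType (X ↘ Spec (CommRingCat.of k))] [LocallyOfFiniteType (Y ↘ Spec (CommRingCat.of k))]
  [Smooth (X ↘ Spec (CommRingCat.of k))] [Smooth (Y ↘ Spec (CommRingCat.of k))]
  (hf : f ≫ (Y ↘ Spec (CommRingCat.of k)) = X ↘ Spec (CommRingCat.of k))

include hf in
omit [IsAlgClosed k] [IsIntegral X] [IsIntegral Y]
  [Smooth (X ↘ Spec (CommRingCat.of k))] [Smooth (Y ↘ Spec (CommRingCat.of k))] in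
theorem lft : LocallyOfFiniteType f := by
  haveI : LocallyOfFiniteType (f ≫ (Y ↘ Spec (CommRingCat.of k))) := hf ▸ inferInstance
  exact locallyOfFiniteType_of_comp f (Y ↘ Spec (CommRingCat.of k))

include hf in
omit [IsAlgClosed k] [IsIntegral X] [IsIntegral Y]
  [Smooth (X ↘ Spec (CommRingCat.of k))] [Smooth (Y ↘ Spec (CommRingCat.of k))] in
theorem isClosed_map {x : X} (hx : IsClosed ({x} : Set X)) : IsClosed ({f x} : Set Y) := by
  haveI := lft f hf
  haveI : JacobsonSpace Y := LocallyOfFiniteType.jacobsonSpace (Y ↘ Spec (CommRingCat.of k))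
  exact f.closePoints_subset_preimage_closedPoints hx

include hf in
omit [IsIntegral X] [IsIntegral Y] [Smooth (X ↘ Spec (CommRingCat.of k))]
  [Smooth (Y ↘ Spec (CommRingCat.of k))] in
theorem formallySmooth_iff' {x : X} (hx : IsClosed ({x} : Set X))
    (hB' : Algebra.FormallySmooth k (X.presheaf.stalk x)) :
    (f.stalkMap x).hom.FormallySmooth ↔ Function.Injective (FixPt.cotangentMapAt f x (f x) rfl) := by
  letI := (f.stalkMap x).hom.toAlgebra
  haveI : IsScalarTower k (Y.presheaf.stalk (f x)) (X.presheaf.stalk x) :=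
    IsScalarTower.of_algebraMap_eq fun c => (RingHom.congr_fun (stalkMap_comp f hf x) c).symm
  haveI : IsLocalHom (algebraMap (Y.presheaf.stalk (f x)) (X.presheaf.stalk x)) :=
    inferInstanceAs (IsLocalHom (f.stalkMap x).hom)
  haveI := essFiniteType_stalk k x
  haveI := essFiniteType_stalk k (f x)
  have hB := H25.Node.Sch.residue_surjective k X x hx
  have hA := H25.Node.Sch.residue_surjective k Y (f x) (isClosed_map f hf hx)
  rw [← cotInjective_iff f x]
  exact ⟨fun (h : Algebra.FormallySmooth (Y.presheaf.stalk (f x)) (X.presheaf.stalk x)) =>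
      SmoothCrit.cotInjective_of_formallySmooth (k := k) hA hB,
    fun h => SmoothCrit.formallySmooth_of_cotInjective (k := k) hA hB h⟩

include hf in
theorem formallySmooth_iff {x : X} (hx : IsClosed ({x} : Set X)) :
    (f.stalkMap x).hom.FormallySmooth ↔ Function.Injective (FixPt.cotangentMapAt f x (f x) rfl) := by
  exact formallySmooth_iff' f hf hx (formallySmooth_stalk k x)

include hf in
omit [IsAlgClosed k] [IsIntegral X] [IsIntegral Y]
  [Smooth (X ↘ Spec (CommRingCat.of k))] [Smooth (Y ↘ Spec (CommRingCat.of k))] in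
theorem lfp : LocallyOfFinitePresentation f := by
  haveI := lft f hf
  haveI : IsLocallyNoetherian Y := LocallyOfFiniteType.isLocallyNoetherian (Y ↘ Spec (CommRingCat.of k))
  exact JacCrit.OverField.locallyOfFinitePresentation f

include hf in
omit [IsAlgClosed k] [IsIntegral X] [IsIntegral Y]
  [Smooth (X ↘ Spec (CommRingCat.of k))] [Smooth (Y ↘ Spec (CommRingCat.of k))] in
/-- Smoothness is checked at closed points. -/
theorem smooth_of_closedPoints
    (h : ∀ x : X, IsClosed ({x} : Set X) → (f.stalkMap x).hom.FormallySmooth) : Smooth f := by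
  haveI := lfp f hf
  haveI : JacobsonSpace X := LocallyOfFiniteType.jacobsonSpace (X ↘ Spec (CommRingCat.of k))
  rw [← Scheme.Hom.smoothLocus_eq_top_iff]
  by_contra hne
  have hne' : ((f.smoothLocus : Set X)ᶜ).Nonempty := by
    rw [Set.nonempty_compl]
    exact fun e => hne (Opens.ext e)
  obtain ⟨x, hxc, hx⟩ := nonempty_inter_closedPoints hne' f.smoothLocus.2.isClosed_compl.isLocallyClosed
  exact hxc (Scheme.Hom.mem_smoothLocus.mpr (h x hx))

include hf in
theorem smooth_iff :
    Smooth f ↔ ∀ x : X, IsClosed ({x} : Set X) →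
      Function.Injective (FixPt.cotangentMapAt f x (f x) rfl) := by
  constructor
  · intro _ x hx
    haveI := lfp f hf
    refine (formallySmooth_iff f hf hx).mp ?_
    rw [← Scheme.Hom.mem_smoothLocus, Scheme.Hom.smoothLocus_eq_top]
    trivial
  · exact fun h => smooth_of_closedPoints f hf fun x hx => (formallySmooth_iff f hf hx).mpr (h x hx)

include hf in
omit [IsAlgClosed k] [Smooth (X ↘ Spec (CommRingCat.of k))] [Smooth (Y ↘ Spec (CommRingCat.of k))] in
/-- A smooth map between irreducible varieties has constant fibre dimension. -/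
theorem fibreDimAt_eq [Smooth f] (dX dY : ℕ) (hX : topologicalKrullDim X = dX)
    (hY : topologicalKrullDim Y = dY) (x : X) :
    dY ≤ dX ∧ FlatMor.fibreDimAt f x = ((dX - dY : ℕ) : WithBot ℕ∞) := by
  haveI : IsLocallyNoetherian Y := LocallyOfFiniteType.isLocallyNoetherian (Y ↘ Spec (CommRingCat.of k))
  haveI := lft f hf
  obtain ⟨m, V, U, hV, hU, e, hx, hs⟩ := Kaehler.SmoothChart.exists_std_chart f x
  have hm : FlatMor.fibreDimAt f x = (m : WithBot ℕ∞) :=
    Kaehler.SmoothChart.fibreDimAt_of_chart hV hU e hs hx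
  have h := RelDimFormula.Basic.localDim_eq_add f m U
    (fun u hu => Kaehler.SmoothChart.fibreDimAt_of_chart hV hU e hs hu) hx
  rw [JacCrit.OverField.localDim_eq_of_irreducible (X ↘ Spec (CommRingCat.of k)) x,
    JacCrit.OverField.localDim_eq_of_irreducible (Y ↘ Spec (CommRingCat.of k)) (f x), hX, hY] at h
  have h' : dX = dY + m := by exact_mod_cast h
  refine ⟨by omega, ?_⟩
  rw [hm, show dX - dY = m by omega]

include hf in
omit [IsAlgClosed k] [Smooth (X ↘ Spec (CommRingCat.of k))] [Smooth (Y ↘ Spec (CommRingCat.of k))] in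
theorem smoothOfRelativeDimension [Smooth f] (dX dY : ℕ) (hX : topologicalKrullDim X = dX)
    (hY : topologicalKrullDim Y = dY) : SmoothOfRelativeDimension (dX - dY) f := by
  refine ⟨fun x => ?_⟩
  obtain ⟨m, V, U, hV, hU, e, hx, hs⟩ := Kaehler.SmoothChart.exists_std_chart f x
  have h := (fibreDimAt_eq f hf dX dY hX hY x).2
  rw [Kaehler.SmoothChart.fibreDimAt_of_chart hV hU e hs hx] at h
  have h' : m = dX - dY := by exact_mod_cast h
  exact ⟨V, hV, U, hU, hx, e, h' ▸ hs⟩

omit [X.Over (Spec (CommRingCat.of k))] [IsAlgClosed k] [IsIntegral X]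
  [LocallyOfFiniteType (X ↘ Spec (CommRingCat.of k))] [Smooth (X ↘ Spec (CommRingCat.of k))] in
/-- Components of a scheme of constant local dimension. -/
theorem dim_component {F : Scheme.{u}} (p : F ⟶ Spec (CommRingCat.of k)) [LocallyOfFiniteType p]
    (m : ℕ) (h : ∀ x : F, FlatMor.localDim F x = (m : WithBot ℕ∞)) {Z : Set F}
    (hZ : Z ∈ irreducibleComponents F) : topologicalKrullDim Z = (m : WithBot ℕ∞) := by
  obtain ⟨z, hz, hg⟩ := Flat55.FlatEquidim.exists_isMax_isGenericPoint hZ
  rw [VarDim.Basic.topologicalKrullDim_isGenericPoint p hg, ← h z]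
  obtain ⟨η, hη, hd⟩ := Flat55.DimSums.exists_pdim_eq_localDim p z
  rw [hd, hz η hη]

omit [IsIntegral Y] [Y.Over (Spec (CommRingCat.of k))]
  [LocallyOfFiniteType (Y ↘ Spec (CommRingCat.of k))] [Smooth (Y ↘ Spec (CommRingCat.of k))] in
theorem finrank_kaehler_stalk (d : ℕ) (hd : topologicalKrullDim X = d) {x : X}
    (hx : IsClosed ({x} : Set X)) :
    Module.finrank (X.presheaf.stalk x) (Ω[X.presheaf.stalk x⁄k]) = d := by
  haveI := formallySmooth_stalk k x
  haveI := essFiniteType_stalk k x
  rw [SmoothCrit.finrank_kaehler (H25.Node.Sch.residue_surjective k X x hx)]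
  haveI := JacCrit.SmoothLocal.isRegularLocalRing_of_formallySmooth k (X.presheaf.stalk x)
  have h := (IsRegularLocalRing.iff_finrank_cotangentSpace (R := X.presheaf.stalk x)).mp
    inferInstance
  haveI : IsLocallyNoetherian X := LocallyOfFiniteType.isLocallyNoetherian (X ↘ Spec (CommRingCat.of k))
  rw [ProjCoh.DualityCM.ringKrullDim_stalk_of_equidim (X ↘ Spec (CommRingCat.of k)) hd
    (fun Z hZ => ?_) x hx] at h
  · exact_mod_cast h
  · rw [irreducibleComponents_eq_singleton] at hZ
    rw [Set.mem_singleton_iff.mp hZ, IsHomeomorph.topologicalKrullDim_eq _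
      (Homeomorph.Set.univ X).isHomeomorph, hd]

include hf in
omit [IsAlgClosed k] [IsIntegral X] [IsIntegral Y]
  [Smooth (X ↘ Spec (CommRingCat.of k))] [Smooth (Y ↘ Spec (CommRingCat.of k))] in
/-- Locally free differentials are free on stalks. -/
theorem nonempty_basis_stalk (n : ℕ) (h : FlatMod.IsFinLocFreeOfRank n (Omega.sheaf f)) (x : X) :
    letI := (f.stalkMap x).hom.toAlgebra
    Nonempty (Module.Basis (Fin n) (X.presheaf.stalk x)
      (Ω[X.presheaf.stalk x⁄Y.presheaf.stalk (f x)])) := by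
  haveI := lfp f hf
  haveI : IsLocallyNoetherian X := LocallyOfFiniteType.isLocallyNoetherian (X ↘ Spec (CommRingCat.of k))
  haveI : QuasiSeparated f := inferInstance
  obtain ⟨U₀, hxU₀, ⟨i⟩⟩ := h x
  obtain ⟨V, hV, hxV, -⟩ := Kaehler.BaseChange.exists_affine_le (W := (⊤ : Y.Opens)) (x := f x) trivial
  obtain ⟨U, hU, hxU, hUV⟩ := Kaehler.BaseChange.exists_affine_le (W := U₀ ⊓ f ⁻¹ᵁ V) (x := x)
    ⟨hxU₀, hxV⟩
  have e : U ≤ f ⁻¹ᵁ V := fun y hy => (hUV hy).2
  have hle : U ≤ U₀ := fun y hy => (hUV hy).1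
  obtain ⟨j⟩ := Kaehler.Chart.nonempty_restrict_iso f hU hV e (Kaehler.DOmega.isUniversal_dOmega f)
  have i' : (Omega.sheaf f).restrict hU.fromSpec ≅ FlatMod.freeMod (Spec Γ(X, U)) n :=
    (Scheme.Modules.restrictFunctorComp hU.isoSpec.inv U.ι).app (Omega.sheaf f) ≪≫
      (Scheme.Modules.restrictFunctor hU.isoSpec.inv).mapIso (Modules.Free.freeOfLE hle i) ≪≫
        Modules.Free.restrictFreeIso hU.isoSpec.inv n
  letI := (f.appLE V U e).hom.toAlgebra
  obtain ⟨b⟩ := JacCrit.Scheme'.nonempty_basis_of_tilde_iso _ (j.symm ≪≫ i')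
  letI := (f.stalkMap x).hom.toAlgebra
  let A := Y.presheaf.stalk (f x)
  let B := X.presheaf.stalk x
  letI : Algebra Γ(Y, V) A := Y.presheaf.algebra_section_stalk ⟨f x, e hxU⟩
  haveI := hV.isLocalization_stalk ⟨f x, e hxU⟩
  haveI : Algebra.FormallyEtale Γ(Y, V) A :=
    .of_isLocalization (hV.primeIdealOf ⟨f x, e hxU⟩).asIdeal.primeCompl
  letI : Algebra Γ(X, U) B := X.presheaf.algebra_section_stalk ⟨x, hxU⟩
  haveI := hU.isLocalization_stalk ⟨x, hxU⟩
  haveI : Algebra.FormallyEtale Γ(X, U) B :=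
    .of_isLocalization (hU.primeIdealOf ⟨x, hxU⟩).asIdeal.primeCompl
  letI : Algebra Γ(Y, V) B := ((algebraMap Γ(X, U) B).comp (f.appLE V U e).hom).toAlgebra
  haveI : IsScalarTower Γ(Y, V) Γ(X, U) B := IsScalarTower.of_algebraMap_eq' rfl
  haveI : IsScalarTower Γ(Y, V) A B := IsScalarTower.of_algebraMap_eq fun a => by
    change X.presheaf.germ U x hxU (f.appLE V U e a) =
      f.stalkMap x (Y.presheaf.germ V (f x) (e hxU) a)
    refine Eq.trans ?_ (Scheme.Hom.germ_stalkMap_apply f V x (e hxU) a).symm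
    rw [Scheme.Hom.appLE, ConcreteCategory.comp_apply, TopCat.Presheaf.germ_res_apply]
  let bB := (b.baseChange B).map
    (KaehlerDifferential.tensorKaehlerEquivOfFormallyEtale Γ(Y, V) Γ(X, U) B)
  have hbij : Function.Bijective (KaehlerDifferential.map Γ(Y, V) A B B) := by
    refine ⟨(injective_iff_map_eq_zero _).mpr fun y hy => ?_,
      KaehlerDifferential.map_surjective Γ(Y, V) A B⟩
    obtain ⟨w, rfl⟩ := (KaehlerDifferential.exact_mapBaseChange_map Γ(Y, V) A B y).mp hy
    haveI : Subsingleton (Ω[A⁄Γ(Y, V)]) := Algebra.FormallyUnramified.subsingleton_kaehlerDifferential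
    rw [Subsingleton.elim w 0, map_zero]
  exact ⟨bB.map (LinearEquiv.ofBijective _ hbij)⟩

include hf in
/-- Locally free differentials of the expected rank imply smoothness. -/
theorem smooth_of_omega (n dX dY : ℕ) (hX : topologicalKrullDim X = dX)
    (hY : topologicalKrullDim Y = dY) (hdim : dX = dY + n)
    (h : FlatMod.IsFinLocFreeOfRank n (Omega.sheaf f)) : Smooth f := by
  refine smooth_of_closedPoints f hf fun x hx => ?_
  letI := (f.stalkMap x).hom.toAlgebra
  haveI : IsScalarTower k (Y.presheaf.stalk (f x)) (X.presheaf.stalk x) :=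
    IsScalarTower.of_algebraMap_eq fun c => (RingHom.congr_fun (stalkMap_comp f hf x) c).symm
  haveI := formallySmooth_stalk k x
  haveI := formallySmooth_stalk k (f x)
  haveI := essFiniteType_stalk k x
  haveI := essFiniteType_stalk k (f x)
  obtain ⟨b⟩ := nonempty_basis_stalk f hf n h x
  haveI : Module.Free (X.presheaf.stalk x) (Ω[X.presheaf.stalk x⁄Y.presheaf.stalk (f x)]) :=
    Module.Free.of_basis b
  haveI : Module.Finite (X.presheaf.stalk x) (Ω[X.presheaf.stalk x⁄Y.presheaf.stalk (f x)]) :=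
    Module.Finite.of_basis b
  refine SmoothCrit.formallySmooth_of_ranks (k := k) ?_
  rw [finrank_kaehler_stalk dX hX hx, finrank_kaehler_stalk dY hY (isClosed_map f hf hx),
    Module.finrank_eq_card_basis b, Fintype.card_fin, hdim]

include hf in
omit [IsAlgClosed k] [IsIntegral X] [IsIntegral Y]
  [Smooth (X ↘ Spec (CommRingCat.of k))] [Smooth (Y ↘ Spec (CommRingCat.of k))] in
theorem omega_of_smooth (n : ℕ) [SmoothOfRelativeDimension n f] :
    FlatMod.IsFinLocFreeOfRank n (Omega.sheaf f) := by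
  intro x
  obtain ⟨V, hV, U, hU, hx, e, hs⟩ :=
    SmoothOfRelativeDimension.exists_isStandardSmoothOfRelativeDimension (n := n) (f := f) x
  haveI : Nonempty U := ⟨⟨x, hx⟩⟩
  haveI := lfp f hf
  haveI : IsLocallyNoetherian X := LocallyOfFiniteType.isLocallyNoetherian (X ↘ Spec (CommRingCat.of k))
  haveI : QuasiSeparated f := inferInstance
  exact ⟨U, hx, Kaehler.SmoothChart.nonempty_restrict_free hV hU e hs
    (Kaehler.DOmega.isUniversal_dOmega f)⟩

end Main

end Groth.Agent.Lib.BirMap96.SmoothCritScheme
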