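import Mathlib.AlgebraicGeometry.Morphisms.Finite
import Mathlib.AlgebraicGeometry.ResidueField
import Mathlib.FieldTheory.IsAlgClosed.Basic
import Groth.Agent.Lib.Cyc.Residue

/-!
# Closed points and points over the algebraic closure
-/

universe u

open CategoryTheory AlgebraicGeometry

namespace Groth.Agent.Lib.BirMap96.AlgPoints

variable (k K : Type u) [Field k] [Field K] [Algebra k K] {X : Scheme.{u}}
  (f : X ⟶ Spec (CommRingCat.of k))

theorem exists_hom (p : Spec (CommRingCat.of K) ⟶ X)
    (hp : p ≫ f = Spec.map (CommRingCat.ofHom (algebraMap k K))) :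
    ∃ (x : X) (g : X.residueField x ⟶ CommRingCat.of K), x = p (IsLocalRing.closedPoint K) ∧
      p = Spec.map g ≫ X.fromSpecResidueField x ∧
      Spec.preimage (X.fromSpecResidueField x ≫ f) ≫ g =
        CommRingCat.ofHom (algebraMap k K) := by
  obtain ⟨⟨x, g⟩, rfl⟩ := (X.SpecToEquivOfField K).symm.surjective p
  simp only [Scheme.SpecToEquivOfField_symm_apply] at hp ⊢
  refine ⟨x, g, ?_, rfl, ?_⟩
  · rw [Scheme.Hom.comp_apply, Scheme.fromSpecResidueField_apply]
  · apply Spec.map_injective
    rw [Spec.map_comp, Spec.map_preimage, ← hp, Category.assoc]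

theorem isClosed_of_hom [Algebra.IsAlgebraic k K] [LocallyOfFiniteType f] (x : X)
    (g : X.residueField x ⟶ CommRingCat.of K)
    (hg : Spec.preimage (X.fromSpecResidueField x ≫ f) ≫ g = CommRingCat.ofHom (algebraMap k K)) :
    IsClosed ({x} : Set X) := by
  haveI : JacobsonSpace X := LocallyOfFiniteType.jacobsonSpace f
  haveI : Subsingleton (Spec (CommRingCat.of k)) := inferInstanceAs (Subsingleton (PrimeSpectrum k))
  set φ := Spec.preimage (X.fromSpecResidueField x ≫ f) with hφ
  have hess : φ.hom.EssFiniteType := by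
    have h1 : (Spec.preimage ((Spec (CommRingCat.of k)).fromSpecResidueField (f x))).hom.FiniteType := by
      haveI : IsClosedImmersion ((Spec (CommRingCat.of k)).fromSpecResidueField (f x)) :=
        isClosed_singleton_iff_isClosedImmersion.mp
          (Set.Subsingleton.isClosed Set.subsingleton_singleton)
      rw [← HasRingHomProperty.Spec_iff (P := @LocallyOfFiniteType), Spec.map_preimage]
      infer_instance
    have h2 : φ = Spec.preimage ((Spec (CommRingCat.of k)).fromSpecResidueField (f x)) ≫
        f.residueFieldMap x := by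
      apply Spec.map_injective
      rw [Spec.map_comp, Spec.map_preimage, Spec.map_preimage,
        Scheme.Hom.SpecMap_residueFieldMap_fromSpecResidueField]
    rw [h2]
    exact RingHom.EssFiniteType.comp h1.essFiniteType (Cyc.Residue.residueFieldMap_essFiniteType x)
  have hfin : φ.hom.Finite := by
    letI := φ.hom.toAlgebra
    haveI : Algebra.EssFiniteType k (X.residueField x) := hess
    let g' : X.residueField x →ₐ[k] K :=
      { g.hom with commutes' := fun r => RingHom.congr_fun (congrArg CommRingCat.Hom.hom hg) r }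
    haveI : Algebra.IsAlgebraic k (X.residueField x) :=
      Algebra.IsAlgebraic.of_injective g' g'.injective
    exact Algebra.finite_of_essFiniteType_of_isAlgebraic
  haveI : IsFinite (Spec.map φ) := (IsFinite.SpecMap_iff _).mpr hfin
  haveI : LocallyOfFiniteType (X.fromSpecResidueField x ≫ f) := by
    rw [← Spec.map_preimage (X.fromSpecResidueField x ≫ f)]
    infer_instance
  haveI : LocallyOfFiniteType (X.fromSpecResidueField x) :=
    locallyOfFiniteType_of_comp (X.fromSpecResidueField x) f
  exact isClosed_singleton_iff_locallyOfFiniteType.mpr inferInstance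

theorem exists_point [IsAlgClosed K] [LocallyOfFiniteType f] (x : X)
    (hx : IsClosed ({x} : Set X)) :
    ∃ p : Spec (CommRingCat.of K) ⟶ X, p ≫ f = Spec.map (CommRingCat.ofHom (algebraMap k K)) ∧
      p (IsLocalRing.closedPoint K) = x := by
  haveI := isClosed_singleton_iff_isClosedImmersion.mp hx
  haveI : JacobsonSpace (Spec (CommRingCat.of k)) :=
    PrimeSpectrum.isJacobsonRing_iff_jacobsonSpace.mp inferInstance
  haveI : IsFinite (X.fromSpecResidueField x ≫ f) :=
    isFinite_iff_locallyOfFiniteType_of_jacobsonSpace.mpr inferInstance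
  set φ := Spec.preimage (X.fromSpecResidueField x ≫ f) with hφ
  have hfin : φ.hom.Finite := (IsFinite.SpecMap_iff _).mp (by
    rw [hφ, Spec.map_preimage]; infer_instance)
  letI := φ.hom.toAlgebra
  haveI : Module.Finite k (X.residueField x) := hfin
  let g : X.residueField x →ₐ[k] K := IsAlgClosed.lift
  refine ⟨Spec.map (CommRingCat.ofHom g.toRingHom) ≫ X.fromSpecResidueField x, ?_, ?_⟩
  · rw [Category.assoc, ← Spec.map_preimage (X.fromSpecResidueField x ≫ f), ← Spec.map_comp]
    congr 1
    ext r
    exact g.commutes r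
  · rw [Scheme.Hom.comp_apply, Scheme.fromSpecResidueField_apply]

theorem exists_algEquiv [IsAlgClosed K] [Algebra.IsAlgebraic k K]
    (p q : Spec (CommRingCat.of K) ⟶ X)
    (hp : p ≫ f = Spec.map (CommRingCat.ofHom (algebraMap k K)))
    (hq : q ≫ f = Spec.map (CommRingCat.ofHom (algebraMap k K)))
    (h : p (IsLocalRing.closedPoint K) = q (IsLocalRing.closedPoint K)) :
    ∃ σ : K ≃ₐ[k] K, q = Spec.map (CommRingCat.ofHom σ.toRingHom) ≫ p := by
  obtain ⟨x, g, hx, hpe, hg⟩ := exists_hom k K f p hp
  obtain ⟨x', g', hx', hqe, hg'⟩ := exists_hom k K f q hq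
  obtain rfl : x' = x := hx'.trans (h.symm.trans hx.symm)
  letI := (Spec.preimage (X.fromSpecResidueField x' ≫ f)).hom.toAlgebra
  letI := g.hom.toAlgebra
  haveI : IsScalarTower k (X.residueField x') K := IsScalarTower.of_algebraMap_eq fun r =>
    (RingHom.congr_fun (congrArg CommRingCat.Hom.hom hg) r).symm
  let g₂ : X.residueField x' →ₐ[k] K :=
    { g'.hom with commutes' := fun r => RingHom.congr_fun (congrArg CommRingCat.Hom.hom hg') r }
  haveI : Algebra.IsAlgebraic (X.residueField x') K :=
    Algebra.IsAlgebraic.tower_top (K := k) (X.residueField x')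
  obtain ⟨σ, hσ⟩ := IsAlgClosed.surjective_domRestrict_of_isAlgebraic (L := X.residueField x') (M := K) (E := K) g₂
  refine ⟨AlgEquiv.ofBijective σ (Algebra.IsAlgebraic.algHom_bijective σ), ?_⟩
  rw [hpe, hqe, ← Category.assoc, ← Spec.map_comp]
  congr 2
  ext z
  exact (AlgHom.congr_fun hσ z).symm

theorem closedPoints_iff [IsAlgClosure k K] [LocallyOfFiniteType f] :
    (∀ x : X, IsClosed ({x} : Set X) ↔
        ∃ p : Spec (CommRingCat.of K) ⟶ X, p ≫ f = Spec.map (CommRingCat.ofHom (algebraMap k K)) ∧
          p (IsLocalRing.closedPoint K) = x) ∧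
      ∀ p q : Spec (CommRingCat.of K) ⟶ X,
        p ≫ f = Spec.map (CommRingCat.ofHom (algebraMap k K)) →
        q ≫ f = Spec.map (CommRingCat.ofHom (algebraMap k K)) →
          (p (IsLocalRing.closedPoint K) = q (IsLocalRing.closedPoint K) ↔
            ∃ σ : K ≃ₐ[k] K, q = Spec.map (CommRingCat.ofHom σ.toRingHom) ≫ p) := by
  haveI : IsAlgClosed K := IsAlgClosure.isAlgClosed k
  haveI : Algebra.IsAlgebraic k K := IsAlgClosure.isAlgebraic
  refine ⟨fun x => ⟨exists_point k K f x, ?_⟩, fun p q hp hq => ⟨exists_algEquiv k K f p q hp hq, ?_⟩⟩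
  · rintro ⟨p, hp, rfl⟩
    obtain ⟨x, g, hx, -, hg⟩ := exists_hom k K f p hp
    exact hx ▸ isClosed_of_hom k K f x g hg
  · rintro ⟨σ, rfl⟩
    rw [Scheme.Hom.comp_apply]
    exact congrArg p ((inferInstanceAs (Subsingleton (PrimeSpectrum K)) :
      Subsingleton (Spec (CommRingCat.of K))).elim _ _)

end Groth.Agent.Lib.BirMap96.AlgPoints
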