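import Mathlib.AlgebraicGeometry.Birational.Birational
import Mathlib.AlgebraicGeometry.Birational.Composition

/-!
# Birational equivalence and mutually inverse rational maps
-/

universe u

open CategoryTheory AlgebraicGeometry

namespace Groth.Agent.Lib.BirMap96

variable {X Y : Scheme.{u}} [IsIntegral X] [IsIntegral Y]

/-- The partial map underlying a partial isomorphism. -/
noncomputable def ofPartialIso (e : X.PartialIso Y) : X.PartialMap Y :=
  ⟨e.source, e.dense_source, e.iso.hom ≫ e.target.ι⟩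

instance (e : X.PartialIso Y) : IsDominant (ofPartialIso e).hom := by
  haveI : IsDominant e.target.ι := ⟨by
    rw [DenseRange, Scheme.Opens.range_ι]; exact e.dense_target⟩
  exact inferInstanceAs (IsDominant (e.iso.hom ≫ e.target.ι))

omit [IsIntegral X] [IsIntegral Y] in
theorem isoImage_inverse (U : X.Opens) (V : Y.Opens) (i : U.toScheme ≅ V.toScheme) :
    (U.ι.isoImage ((i.hom ≫ V.ι) ⁻¹ᵁ V)).inv ≫ ((i.hom ≫ V.ι) ∣_ V) ≫ i.inv ≫ U.ι =
      (U.ι ''ᵁ ((i.hom ≫ V.ι) ⁻¹ᵁ V)).ι := by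
  have h1 : (i.hom ≫ V.ι) ∣_ V = ((i.hom ≫ V.ι) ⁻¹ᵁ V).ι ≫ i.hom := by
    rw [← cancel_mono V.ι, morphismRestrict_ι, Category.assoc]
  rw [h1, Category.assoc, Iso.hom_inv_id_assoc, Scheme.Hom.isoImage_inv_ι]

theorem comp_ofPartialIso (e : X.PartialIso Y) :
    (ofPartialIso e).toRationalMap.comp (ofPartialIso e.symm).toRationalMap =
      Scheme.RationalMap.id X := by
  rw [Scheme.RationalMap.toRationalMap_comp]
  refine Scheme.PartialMap.toRationalMap_eq_iff.mpr ?_
  let f := ofPartialIso e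
  let g := ofPartialIso e.symm
  refine ⟨(f.comp g).domain, (f.comp g).dense_domain, le_rfl, le_top, ?_⟩
  simp only [Scheme.PartialMap.restrict_hom, Scheme.homOfLE_rfl, Category.id_comp]
  refine (isoImage_inverse e.source e.target e.iso).trans ?_
  show _ = X.homOfLE _ ≫ (Scheme.Hom.toPartialMap (𝟙 X)).hom
  exact (Scheme.homOfLE_ι _ _).symm

theorem exists_rep (f : X.PartialMap Y) [IsDominant f.hom] (g : Y.PartialMap X)
    (h : (f.comp g).equiv (Scheme.PartialMap.id X)) :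
    ∃ (W : X.Opens) (_ : Dense (W : Set X)) (hW : W ≤ f.domain) (F : W.toScheme ⟶ g.domain),
      F ≫ g.hom = W.ι ∧ F ≫ g.domain.ι = X.homOfLE hW ≫ f.hom := by
  obtain ⟨W, hW, hW₁, hW₂, e⟩ := h
  have hle : W ≤ f.domain := hW₁.trans (f.domain.ι_image_le _)
  refine ⟨W, hW, hle, X.homOfLE hW₁ ≫ (f.domain.ι.isoImage _).inv ≫ f.hom ∣_ g.domain, ?_, ?_⟩
  · simp only [Scheme.PartialMap.restrict_hom, Scheme.PartialMap.comp_hom,
      Scheme.Hom.toPartialMap_hom, Category.comp_id] at e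
    rw [Category.assoc, Category.assoc]
    exact e.trans (Scheme.homOfLE_ι _ _)
  · rw [Category.assoc, Category.assoc, morphismRestrict_ι]
    have hW₁' : W ≤ f.domain.ι ''ᵁ f.hom ⁻¹ᵁ g.domain := hW₁
    have h2 : X.homOfLE hW₁' ≫ (f.domain.ι.isoImage (f.hom ⁻¹ᵁ g.domain)).inv ≫
        (f.hom ⁻¹ᵁ g.domain).ι = X.homOfLE hle := by
      rw [← cancel_mono f.domain.ι, Category.assoc, Category.assoc, Scheme.Hom.isoImage_inv_ι,
        Scheme.homOfLE_ι]
      exact (Scheme.homOfLE_ι X hle).symm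
    exact (congrArg (X.homOfLE hW₁' ≫ ·) (Category.assoc _ _ _).symm).trans
      ((Category.assoc _ _ _).symm.trans (congrArg (· ≫ f.hom) h2))

theorem birational_of_inverse (f : X.PartialMap Y) [IsDominant f.hom] (g : Y.PartialMap X)
    [IsDominant g.hom] (hfg : (f.comp g).equiv (Scheme.PartialMap.id X))
    (hgf : (g.comp f).equiv (Scheme.PartialMap.id Y)) : Scheme.Birational X Y := by
  obtain ⟨W, hW, hWf, F, hF, hFι⟩ := exists_rep f g hfg
  obtain ⟨W', hW', hWg, G, hG, hGι⟩ := exists_rep g f hgf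
  haveI : IsDominant (X.homOfLE hWf ≫ f.hom) :=
    inferInstanceAs (IsDominant (f.restrict W hW hWf).hom)
  haveI : IsDominant (Y.homOfLE hWg ≫ g.hom) :=
    inferInstanceAs (IsDominant (g.restrict W' hW' hWg).hom)
  let φ : W.toScheme ⟶ Y := X.homOfLE hWf ≫ f.hom
  let ψ : W'.toScheme ⟶ X := Y.homOfLE hWg ≫ g.hom
  let A := φ ⁻¹ᵁ W'
  let B := ψ ⁻¹ᵁ W
  have key₁ : (φ ∣_ W') ≫ ψ = A.ι ≫ W.ι := by
    have h1 : (φ ∣_ W') ≫ Y.homOfLE hWg = A.ι ≫ F := by
      rw [← cancel_mono g.domain.ι, Category.assoc, Scheme.homOfLE_ι, morphismRestrict_ι,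
        Category.assoc, hFι]
    simp only [ψ]
    rw [← Category.assoc, h1, Category.assoc, hF]
  have key₂ : (ψ ∣_ W) ≫ φ = B.ι ≫ W'.ι := by
    have h1 : (ψ ∣_ W) ≫ X.homOfLE hWf = B.ι ≫ G := by
      rw [← cancel_mono f.domain.ι, Category.assoc, Scheme.homOfLE_ι, morphismRestrict_ι,
        Category.assoc, hGι]
    simp only [φ]
    rw [← Category.assoc, h1, Category.assoc, hG]
  have r₁ : Set.range (φ ∣_ W') ⊆ Set.range B.ι := by
    rintro _ ⟨a, rfl⟩
    rw [Scheme.Opens.range_ι]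
    show ψ ((φ ∣_ W') a) ∈ W
    rw [← Scheme.Hom.comp_apply, key₁, Scheme.Hom.comp_apply]
    exact (A.ι a).2
  have r₂ : Set.range (ψ ∣_ W) ⊆ Set.range A.ι := by
    rintro _ ⟨a, rfl⟩
    rw [Scheme.Opens.range_ι]
    show φ ((ψ ∣_ W) a) ∈ W'
    rw [← Scheme.Hom.comp_apply, key₂, Scheme.Hom.comp_apply]
    exact (B.ι a).2
  let a : A.toScheme ⟶ B.toScheme := IsOpenImmersion.lift B.ι (φ ∣_ W') r₁
  let b : B.toScheme ⟶ A.toScheme := IsOpenImmersion.lift A.ι (ψ ∣_ W) r₂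
  have ha : a ≫ B.ι = φ ∣_ W' := IsOpenImmersion.lift_fac _ _ _
  have hb : b ≫ A.ι = ψ ∣_ W := IsOpenImmersion.lift_fac _ _ _
  let e : A.toScheme ≅ B.toScheme :=
    { hom := a
      inv := b
      hom_inv_id := by
        rw [← cancel_mono A.ι, ← cancel_mono W.ι, Category.id_comp, Category.assoc, Category.assoc,
          ← Category.assoc b, hb, morphismRestrict_ι, ← Category.assoc a, ha, key₁]
      inv_hom_id := by
        rw [← cancel_mono B.ι, ← cancel_mono W'.ι, Category.id_comp, Category.assoc, Category.assoc,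
          ← Category.assoc a, ha, morphismRestrict_ι, ← Category.assoc b, hb, key₂] }
  have hA : ((W.ι ''ᵁ A : X.Opens) : Set X).Nonempty := by
    obtain ⟨z, hz⟩ := φ.denseRange.inter_open_nonempty _ W'.2 hW'.nonempty
    obtain ⟨z, rfl⟩ := hz.2
    exact ⟨W.ι z, z, hz.1, rfl⟩
  have hB : ((W'.ι ''ᵁ B : Y.Opens) : Set Y).Nonempty := by
    obtain ⟨z, hz⟩ := ψ.denseRange.inter_open_nonempty _ W.2 hW.nonempty
    obtain ⟨z, rfl⟩ := hz.2
    exact ⟨W'.ι z, z, hz.1, rfl⟩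
  exact ⟨⟨W.ι ''ᵁ A, (W.ι ''ᵁ A).2.dense hA, W'.ι ''ᵁ B, (W'.ι ''ᵁ B).2.dense hB,
    (W.ι.isoImage A).symm ≪≫ e ≪≫ W'.ι.isoImage B⟩⟩

theorem birational_iff :
    Scheme.Birational X Y ↔
      ∃ (f : X ⤏ Y) (g : Y ⤏ X) (_ : f.IsDominant) (_ : g.IsDominant),
        f.comp g = Scheme.RationalMap.id X ∧ g.comp f = Scheme.RationalMap.id Y := by
  constructor
  · rintro ⟨e⟩
    exact ⟨(ofPartialIso e).toRationalMap, (ofPartialIso e.symm).toRationalMap, inferInstance,
      inferInstance, comp_ofPartialIso e, comp_ofPartialIso e.symm⟩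
  · rintro ⟨f, g, hf, hg, hfg, hgf⟩
    refine birational_of_inverse f.representative g.representative ?_ ?_
    · rw [← g.toRationalMap_representative, Scheme.RationalMap.comp_def] at hfg
      exact Scheme.PartialMap.toRationalMap_eq_iff.mp hfg
    · rw [← f.toRationalMap_representative, Scheme.RationalMap.comp_def] at hgf
      exact Scheme.PartialMap.toRationalMap_eq_iff.mp hgf

end Groth.Agent.Lib.BirMap96
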