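import Groth.Agent.Lib.Conormal92.SplitInj
import Groth.Agent.Lib.Modules.AffineSections
import Groth.Agent.Lib.SmoothLift.Formal
import Groth.Agent.Lib.JacCrit.OverField
import Mathlib.AlgebraicGeometry.Morphisms.Smooth

/-!
# A subscheme with locally free differentials and injective conormal map is smooth
-/

set_option autoImplicit false
set_option linter.style.haveILetI false
universe u

open CategoryTheory CategoryTheory.Limits AlgebraicGeometry TopologicalSpace Opposite OmegaSh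
open Groth.Agent.Lib
open scoped TensorProduct

namespace Groth.Agent.Lib.BirMap96.ConormalSmooth

/-- Projective differentials and injective conormal map give formal smoothness. -/
theorem formallySmooth_of_injective {R A B : Type u} [CommRing R] [CommRing A] [CommRing B]
    [Algebra R A] [Algebra A B] [Algebra R B] [IsScalarTower R A B] [Algebra.FormallySmooth R A]
    (hsurj : Function.Surjective (algebraMap A B)) [Module.Projective B (Ω[B⁄R])]
    (hinj : Function.Injective (KaehlerDifferential.kerCotangentToTensor R A B)) :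
    Algebra.FormallySmooth R B := by
  refine (Algebra.FormallySmooth.iff_split_injection (P := A) hsurj).2 ?_
  have hex := KaehlerDifferential.exact_kerCotangentToTensor_mapBaseChange R A B hsurj
  obtain ⟨s, hs⟩ := Module.projective_lifting_property (KaehlerDifferential.mapBaseChange R A B)
    LinearMap.id (KaehlerDifferential.mapBaseChange_surjective R A B hsurj)
  let f := KaehlerDifferential.kerCotangentToTensor R A B
  let g := KaehlerDifferential.mapBaseChange R A B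
  have hmem : ∀ z, z - s (g z) ∈ LinearMap.range f := fun z => by
    refine (hex _).1 ?_
    rw [map_sub]
    exact sub_eq_zero.2 (LinearMap.congr_fun hs (g z)).symm
  let h : B ⊗[A] Ω[A⁄R] →ₗ[A] LinearMap.range f :=
    (LinearMap.id - (s.comp g).restrictScalars A).codRestrict _ hmem
  refine ⟨(LinearEquiv.ofInjective f hinj).symm.toLinearMap.comp h, LinearMap.ext fun x => ?_⟩
  show (LinearEquiv.ofInjective f hinj).symm (h (f x)) = x
  rw [LinearEquiv.symm_apply_eq]
  refine Subtype.ext ?_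
  show f x - s (g (f x)) = f x
  rw [hex.apply_apply_eq_zero, map_zero, sub_zero]

variable {X' X Y : Scheme.{u}} {j : X' ⟶ X} [QuasiCompact j] {f : X ⟶ Y} {Ω : X.Modules}
  {d : Der f Ω} {φ : Omega.conormal j ⟶ (Scheme.Modules.pullback j).obj Ω}
  {Ω' : X'.Modules} {d' : Der (j ≫ f) Ω'}

/-- The affine criterion. -/
theorem formallySmooth_appLE (hd : IsUniversal d) (hφ : IsConormalDiff j d φ)
    (hd' : IsUniversal d') (hfree : FlatMod.IsFinLocFree Ω') {V : X.Opens}
    (hch : Conormal92.Affine.IsChart j V) {Y₀ : Y.Opens} (hY₀ : IsAffineOpen Y₀) (e : V ≤ f ⁻¹ᵁ Y₀)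
    (hfs : (f.appLE Y₀ V e).hom.FormallySmooth) (hφinj : Function.Injective (φ.app (j ⁻¹ᵁ V))) :
    ((j ≫ f).appLE Y₀ (j ⁻¹ᵁ V)
      (by rw [Scheme.Hom.comp_preimage]; exact j.preimage_mono e)).hom.FormallySmooth := by
  haveI : Ω.IsQuasicoherent := Kaehler.Finite.isQuasicoherent hd
  have e' : j ⁻¹ᵁ V ≤ (j ≫ f) ⁻¹ᵁ Y₀ := by
    rw [Scheme.Hom.comp_preimage]; exact j.preimage_mono e
  obtain ⟨E, hE⟩ := Conormal92.OmegaSect.exists_equiv f hch.affine hY₀ e hd
  obtain ⟨E₂, -⟩ := Conormal92.OmegaSect.exists_equiv (j ≫ f) hch.affine_preimage hY₀ e' hd'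
  letI : Algebra Γ(Y, Y₀) Γ(X, V) := (f.appLE Y₀ V e).hom.toAlgebra
  letI : Algebra Γ(X, V) Γ(X', j ⁻¹ᵁ V) := (j.appLE V (j ⁻¹ᵁ V) le_rfl).hom.toAlgebra
  letI : Algebra Γ(Y, Y₀) Γ(X', j ⁻¹ᵁ V) := ((j ≫ f).appLE Y₀ (j ⁻¹ᵁ V) e').hom.toAlgebra
  haveI : IsScalarTower Γ(Y, Y₀) Γ(X, V) Γ(X', j ⁻¹ᵁ V) := IsScalarTower.of_algebraMap_eq fun a =>
    (congrArg (fun (q : Γ(Y, Y₀) ⟶ Γ(X', j ⁻¹ᵁ V)) => q a)
      (Scheme.Hom.appLE_comp_appLE j f Y₀ V (j ⁻¹ᵁ V) e le_rfl)).symm
  haveI : Algebra.FormallySmooth Γ(Y, Y₀) Γ(X, V) := hfs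
  have halg : algebraMap Γ(X, V) Γ(X', j ⁻¹ᵁ V) = (j.app V).hom := by
    show (j.appLE V (j ⁻¹ᵁ V) le_rfl).hom = _
    rw [← Scheme.Hom.app_eq_appLE]
  have hs : Function.Surjective (algebraMap Γ(X, V) Γ(X', j ⁻¹ᵁ V)) := by
    rw [halg]; exact hch.surj
  haveI : Module.Projective Γ(X', j ⁻¹ᵁ V) (Ω[Γ(X', j ⁻¹ᵁ V)⁄Γ(Y, Y₀)]) := by
    haveI : Ω'.IsQuasicoherent := Kaehler.Finite.isQuasicoherent hd'
    haveI := (Modules.AffineSections.finite_projective_sections hfree hch.affine_preimage).2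
    exact Module.Projective.of_equiv E₂
  refine formallySmooth_of_injective hs ?_
  letI : Module Γ(X, V) Γ((Scheme.Modules.pullback j).obj Ω, j ⁻¹ᵁ V) :=
    Module.compHom _ (j.appLE V (j ⁻¹ᵁ V) le_rfl).hom
  haveI : IsScalarTower Γ(X, V) Γ(X', j ⁻¹ᵁ V) Γ((Scheme.Modules.pullback j).obj Ω, j ⁻¹ᵁ V) :=
    IsScalarTower.of_algebraMap_smul fun _ _ => rfl
  have hb := CechRes.PullSec.isBaseChange_mu j Ω hch.affine hch.affine_preimage le_rfl
  let E' : Ω[Γ(X, V)⁄Γ(Y, Y₀)] →ₗ[Γ(X, V)] Γ(Ω, V) :=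
    { toFun := fun y => E.symm y, map_add' := map_add E.symm, map_smul' := map_smul E.symm }
  rw [injective_iff_map_eq_zero]
  intro x hx
  obtain ⟨⟨t, ht⟩, rfl⟩ := Ideal.toCotangent_surjective _ x
  obtain ⟨k, hk⟩ := (Conormal92.Affine.exists_idealSect_iff hch.affine t).2 (by rwa [halg] at ht)
  rw [KaehlerDifferential.kerCotangentToTensor_toCotangent] at hx
  have h1 := congrArg (hb.equiv ∘ (E'.lTensor Γ(X', j ⁻¹ᵁ V))) hx
  simp only [Function.comp_apply, map_zero, LinearMap.lTensor_tmul] at h1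
  rw [IsBaseChange.equiv_tmul, one_smul] at h1
  have hDt : E' (KaehlerDifferential.D Γ(Y, Y₀) Γ(X, V) t) = d.app V t := by
    change E.symm (CommRingCat.KaehlerDifferential.d t) = _
    rw [← hE t, LinearEquiv.symm_apply_apply]
  erw [hDt] at h1
  have hmu : pullSect j Ω V (d.app V (idealSect j.ker V k)) = 0 := by
    rw [hk]
    refine Eq.trans ?_ h1
    exact (congrArg (fun g => (ConcreteCategory.hom g) (pullSect j Ω V (d.app V t)))
      (((Scheme.Modules.pullback j).obj Ω).presheaf.map_id (op (j ⁻¹ᵁ V)))).symm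
  have h2 : conormalSect j V k = 0 := hφinj (((hφ V k).trans hmu).trans (map_zero _).symm)
  rw [Ideal.toCotangent_eq_zero]
  have h3 := ((Conormal92.Affine.conormalSect_spec hch).2 k).1 h2
  rw [hk, ← halg] at h3
  exact h3

/-- Regularity of a subscheme of a smooth scheme over a field. -/
theorem isRegularLocalRing_stalk {K : Type u} [Field K] {X Z : Scheme.{u}} {p : X ⟶ Spec (CommRingCat.of K)}
    [Smooth p] (i : Z ⟶ X) [IsClosedImmersion i] {Ω : X.Modules} {d : Der p Ω} (hd : IsUniversal d)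
    {Ω' : Z.Modules} {d' : Der (i ≫ p) Ω'} (hd' : IsUniversal d') (hfree : FlatMod.IsFinLocFree Ω')
    {φ : Omega.conormal i ⟶ (Scheme.Modules.pullback i).obj Ω} (hφ : IsConormalDiff i d φ) [Mono φ]
    (z : Z) : IsRegularLocalRing (Z.presheaf.stalk z) := by
  haveI := JacCrit.OverField.locallyOfFinitePresentation (i ≫ p)
  obtain ⟨V, hch, hzV, -⟩ := Conormal92.Affine.exists_chart i z (W := ⊤) trivial
  have e : V ≤ p ⁻¹ᵁ ⊤ := fun _ _ => trivial
  have e' : i ⁻¹ᵁ V ≤ (i ≫ p) ⁻¹ᵁ ⊤ := fun _ _ => trivial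
  have h := formallySmooth_appLE hd hφ hd' hfree hch (isAffineOpen_top _) e
    (Kaehler.FSmooth.formallySmooth_appLE (SmoothLift.Formal.isFormallySmoothHom_of_smooth p)
      (isAffineOpen_top _) hch.affine e)
    (Modules.Stalk.mono_iff_app_injective φ |>.1 inferInstance _)
  refine JacCrit.OverField.isRegularLocalRing_stalk z (f := i ≫ p) ?_
  rw [Scheme.Hom.mem_smoothLocus,
    formallySmooth_stalkMap_iff ⊤ (isAffineOpen_top _) (i ⁻¹ᵁ V) hch.affine_preimage e' hzV]
  letI := ((i ≫ p).appLE ⊤ (i ⁻¹ᵁ V) e').hom.toAlgebra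
  haveI : Algebra.FormallySmooth Γ(Spec (CommRingCat.of K), ⊤) Γ(Z, i ⁻¹ᵁ V) := h
  let q := (hch.affine_preimage.primeIdealOf ⟨z, hzV⟩).asIdeal
  haveI : Algebra.FormallyEtale Γ(Z, i ⁻¹ᵁ V) (Localization.AtPrime q) :=
    .of_isLocalization q.primeCompl
  exact Algebra.FormallySmooth.comp Γ(Spec (CommRingCat.of K), ⊤) Γ(Z, i ⁻¹ᵁ V) (Localization.AtPrime q)

end Groth.Agent.Lib.BirMap96.ConormalSmooth
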