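import Groth.Agent.Lib.BirMap96.SecProd
import Groth.Agent.Lib.Unram.AtPrime
import Groth.Agent.Lib.Kaehler.DOmega
import Groth.Agent.Lib.Kaehler.SmoothChart
import Groth.Agent.Lib.Kaehler.BaseChange
import Groth.Agent.Lib.JacCrit.OverField
import Mathlib.RingTheory.Etale.Field

/-!
# Pullback of differentials along a generically étale morphism is injective
-/

set_option autoImplicit false
universe u

open CategoryTheory CategoryTheory.Limits AlgebraicGeometry Opposite TopologicalSpace
open Groth.Agent.Lib OmegaSh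
open Groth.Agent.Lib.TensorMod.Dual (rs rf rs_rs rs_smul)
open Groth.Agent.Lib.Modules.TensorSec (section_ext rs_zero)

noncomputable section

namespace Groth.Agent.Lib.BirMap96.DiffMono

variable {X : Scheme.{u}} [IsIntegral X]

/-- A section of a module with dual bases vanishing on a nonempty open is zero. -/
theorem eq_zero_of_rs {E : X.Modules} (hE : Modules.DualBasis.HasDBases E) {W V : X.Opens}
    (hW : (W : Set X).Nonempty) {r : Γ(E, V)} (hr : rs E (inf_le_right : W ⊓ V ≤ V) r = 0) :
    r = 0 := by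
  refine section_ext _ _ _ fun y hy => ?_
  obtain ⟨U, n, hyU, hUV, ⟨b⟩⟩ := Modules.DualBasis.exists_dBasis_le hE hy
  refine ⟨U, hUV, hyU, ?_⟩
  rw [rs_zero, ← b.sum_eq U le_rfl (rs E hUV r)]
  refine Finset.sum_eq_zero fun i _ => ?_
  suffices h0 : (b.f i).app le_rfl (rs E hUV r) = 0 by rw [h0, zero_smul]
  have hne : ((W ⊓ U : X.Opens) : Set X).Nonempty :=
    nonempty_preirreducible_inter W.2 U.2 hW ⟨y, hyU⟩
  haveI : Nonempty (W ⊓ U : X.Opens) := hne.to_subtype
  refine map_injective_of_isIntegral X (homOfLE (inf_le_right : W ⊓ U ≤ U)) ?_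
  rw [map_zero]
  refine ((b.f i).compat le_rfl (inf_le_right : W ⊓ U ≤ U) _).trans ?_
  rw [rs_rs, ← rs_rs E (inf_le_right : W ⊓ V ≤ V) (inf_le_inf_left W hUV), hr, rs_zero, map_zero]

theorem mono_of_isIso_pullback {E F : X.Modules} (c : E ⟶ F)
    (hE : Modules.DualBasis.HasDBases E) {W : X.Opens} (hW : (W : Set X).Nonempty)
    [IsIso ((Scheme.Modules.pullback W.ι).map c)] : Mono c := by
  haveI : IsIso ((Scheme.Modules.restrictFunctor W.ι).map c) :=
    (NatIso.isIso_map_iff (Scheme.Modules.restrictFunctorIsoPullback W.ι) c).mpr inferInstance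
  rw [Modules.Stalk.mono_iff_app_injective]
  intro V
  rw [injective_iff_map_eq_zero]
  intro r hr
  refine eq_zero_of_rs hE hW (V := V) ?_
  have hle : W.ι ''ᵁ (W.ι ⁻¹ᵁ V) ≤ V := W.ι.image_preimage_le V
  have hle' : W ⊓ V ≤ W.ι ''ᵁ (W.ι ⁻¹ᵁ V) := fun z hz => ⟨⟨z, hz.1⟩, hz.2, rfl⟩
  have h1 : rs E hle r = 0 := by
    have hinj := ((Scheme.Modules.Hom.app ((Scheme.Modules.restrictFunctor W.ι).map c) (W.ι ⁻¹ᵁ V)))
    have hb : Function.Bijective
        (((Scheme.Modules.restrictFunctor W.ι).map c).app (W.ι ⁻¹ᵁ V)) :=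
      ConcreteCategory.bijective_of_isIso _
    refine hb.1 (Eq.trans ?_ (map_zero _).symm)
    change c.app (W.ι ''ᵁ (W.ι ⁻¹ᵁ V)) (E.presheaf.map (homOfLE hle).op r) = 0
    refine (Modules.TensorSec.app_rs c hle r).trans ?_
    rw [hr, rs_zero]
  rw [← rs_rs E hle hle', h1, rs_zero]

variable {S Y : Scheme.{u}} {pX : X ⟶ S} {pY : Y ⟶ S} (φ : X ⟶ Y) (w : φ ≫ pY = pX)

include w in
omit [IsIntegral X] in
theorem isIso_pullback_map {ΩY : Y.Modules} {dY : Der pY ΩY} (hY : IsUniversal dY)
    {ΩX : X.Modules} {dX : Der pX ΩX} (hX : IsUniversal dX)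
    (c : (Scheme.Modules.pullback φ).obj ΩY ⟶ ΩX) (hc : IsDiffCompat φ dY dX c)
    (W : X.Opens) [Etale (W.ι ≫ φ)] : IsIso ((Scheme.Modules.pullback W.ι).map c) := by
  have sq : pX ≫ 𝟙 S = φ ≫ pY := by rw [Category.comp_id, w]
  have sqι : (W.ι ≫ pX) ≫ 𝟙 S = W.ι ≫ pX := Category.comp_id _
  have sq2 : (W.ι ≫ pX) ≫ 𝟙 S = (W.ι ≫ φ) ≫ pY := by rw [Category.comp_id, Category.assoc, w]
  obtain ⟨ΩW, dW, hdW⟩ := Kaehler.Exists.exists_isUniversal (W.ι ≫ pX)
  obtain ⟨c₁, hc₁⟩ := (Kaehler.Basic.existsUnique_diffCompat sqι hX dW).exists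
  haveI := Kaehler.BaseChange.isIso_of_etale sqι hX hdW c₁ hc₁
  obtain ⟨c₂, hc₂⟩ := (Kaehler.Basic.existsUnique_diffCompat sq2 hY dW).exists
  haveI := Kaehler.BaseChange.isIso_of_etale sq2 hY hdW c₂ hc₂
  let adj := Scheme.Modules.pullbackPushforwardAdjunction φ
  let adjW := Scheme.Modules.pullbackPushforwardAdjunction W.ι
  have hX' := (Kaehler.Basic.isUniversal_iff dX).mp hX
  have hY' := (Kaehler.Basic.isUniversal_iff dY).mp hY
  have key : ∀ G : (W : Scheme.{u}).Modules,
      Function.Bijective (fun α : ΩX ⟶ (Scheme.Modules.pushforward W.ι).obj G => c ≫ α) := by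
    intro G
    have b1 := Kaehler.DOmega.derPush_bijective_of_isIso sqι hX hdW c₁ hc₁ G
    have b2 := Kaehler.DOmega.derPush_bijective_of_isIso sq2 hY hdW c₂ hc₂ G
    have b0 : Function.Bijective (Kaehler.Basic.derPush (f := pY) (f' := pX) φ (𝟙 S) sq
        (G := (Scheme.Modules.pushforward W.ι).obj G)) := by
      refine (Function.Bijective.of_comp_iff _ b1).mp ?_
      exact b2
    have h1 := b0.comp (hX' ((Scheme.Modules.pushforward W.ι).obj G))
    have h2 := (hY' ((Scheme.Modules.pushforward φ).obj ((Scheme.Modules.pushforward W.ι).obj G))).comp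
      (adj.homEquiv ΩY ((Scheme.Modules.pushforward W.ι).obj G)).bijective
    have h3 : (Kaehler.Basic.derPush (f := pY) φ (𝟙 S) sq) ∘
          (fun α : ΩX ⟶ (Scheme.Modules.pushforward W.ι).obj G => Kaehler.Basic.derComp dX α) =
        ((fun α => Kaehler.Basic.derComp dY α) ∘ adj.homEquiv ΩY _) ∘ (fun α => c ≫ α) := by
      funext α
      change Kaehler.Basic.derPush φ (𝟙 S) sq (Kaehler.Basic.derComp dX α) =
        Kaehler.Basic.derComp dY (adj.homEquiv ΩY _ (c ≫ α))
      rw [Kaehler.Basic.derPush_derComp, ← (Kaehler.Basic.isDiffCompat_iff sq dY dX c).mp hc,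
        Kaehler.Basic.derComp_comp, Adjunction.homEquiv_naturality_right]
    rw [h3] at h1
    exact Function.Bijective.of_comp_iff' h2 _ |>.mp h1
  refine isIso_of_coyoneda_map_bijective _ fun G => ?_
  have h : (fun β : (Scheme.Modules.pullback W.ι).obj ΩX ⟶ G => (Scheme.Modules.pullback W.ι).map c ≫ β) =
      (adjW.homEquiv _ G).symm ∘ (fun α => c ≫ α) ∘ adjW.homEquiv _ G := by
    funext β
    rw [Function.comp_apply, Function.comp_apply, Adjunction.homEquiv_naturality_left_symm,
      Equiv.symm_apply_apply]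
  rw [h]
  exact (adjW.homEquiv _ G).symm.bijective.comp ((key G).comp (adjW.homEquiv _ G).bijective)

omit [IsIntegral X] in
/-- The étale locus contains the generic point of a separable dominant morphism. -/
theorem exists_etale_nhd [IsIntegral X] [IsIntegral Y] [LocallyOfFinitePresentation φ]
    (hdom : DenseRange φ.base)
    (hsep : letI := (φ.residueFieldMap (genericPoint X)).hom.toAlgebra
      Algebra.IsSeparable (Y.residueField (φ.base (genericPoint X))) (X.residueField (genericPoint X))) :
    ∃ W : X.Opens, genericPoint X ∈ W ∧ Etale (W.ι ≫ φ) := by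
  rw [Unram.AtPrime.exists_etale_nhd_iff]
  have hη : φ (genericPoint X) = genericPoint Y := by
    have h := (genericPoint_spec X).image φ.continuous
    rw [Set.image_univ, hdom.closure_range] at h
    exact h.eq (genericPoint_spec Y)
  have hA : IsField (Y.presheaf.stalk (φ (genericPoint X))) := by
    rw [hη]
    exact Field.toIsField Y.functionField
  have hB : IsField (X.presheaf.stalk (genericPoint X)) := Field.toIsField X.functionField
  refine ⟨?_, ?_⟩
  · letI := (φ.stalkMap (genericPoint X)).hom.toAlgebra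
    letI := hA.toField
    exact (inferInstance : Module.Flat (Y.presheaf.stalk (φ (genericPoint X)))
      (X.presheaf.stalk (genericPoint X)))
  · letI := (φ.stalkMap (genericPoint X)).hom.toAlgebra
    haveI : IsLocalHom (algebraMap (Y.presheaf.stalk (φ (genericPoint X)))
        (X.presheaf.stalk (genericPoint X))) :=
      inferInstanceAs (IsLocalHom (φ.stalkMap (genericPoint X)).hom)
    haveI : Algebra.EssFiniteType (Y.presheaf.stalk (φ (genericPoint X)))
        (X.presheaf.stalk (genericPoint X)) := LocallyOfFiniteType.stalkMap φ _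
    have hmB : IsLocalRing.maximalIdeal (X.presheaf.stalk (genericPoint X)) = ⊥ :=
      (IsLocalRing.isField_iff_maximalIdeal_eq.mp hB)
    have hmA : IsLocalRing.maximalIdeal (Y.presheaf.stalk (φ (genericPoint X))) = ⊥ :=
      (IsLocalRing.isField_iff_maximalIdeal_eq.mp hA)
    have H : (IsLocalRing.maximalIdeal (Y.presheaf.stalk (φ (genericPoint X)))).map
        (algebraMap _ (X.presheaf.stalk (genericPoint X))) =
        IsLocalRing.maximalIdeal (X.presheaf.stalk (genericPoint X)) := by
      rw [hmA, hmB, Ideal.map_bot]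
    haveI : Algebra.IsSeparable (IsLocalRing.ResidueField (Y.presheaf.stalk (φ (genericPoint X))))
        (IsLocalRing.ResidueField (X.presheaf.stalk (genericPoint X))) := by
      have e : (algebraMap (IsLocalRing.ResidueField (Y.presheaf.stalk (φ (genericPoint X))))
          (IsLocalRing.ResidueField (X.presheaf.stalk (genericPoint X)))) =
          (φ.residueFieldMap (genericPoint X)).hom := RingHom.ext fun z => by
        obtain ⟨z, rfl⟩ := IsLocalRing.residue_surjective z
        rfl
      letI := (φ.residueFieldMap (genericPoint X)).hom.toAlgebra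
      haveI : Algebra.IsSeparable (Y.residueField (φ (genericPoint X)))
        (X.residueField (genericPoint X)) := hsep
      exact Algebra.IsSeparable.of_equiv_equiv (A₁ := Y.residueField (φ (genericPoint X)))
        (B₁ := X.residueField (genericPoint X)) (RingEquiv.refl _) (RingEquiv.refl _)
        (RingHom.ext fun z => (RingHom.congr_fun e z).trans rfl)
    exact Algebra.FormallyUnramified.of_map_maximalIdeal H

theorem mono_compat {k : Type u} [Field k] {Y : Scheme.{u}} [IsIntegral Y]
    (pX : X ⟶ Spec (CommRingCat.of k)) (pY : Y ⟶ Spec (CommRingCat.of k)) (φ : X ⟶ Y)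
    (w : φ ≫ pY = pX) [Smooth pX] [Smooth pY] (hdom : DenseRange φ.base)
    (hsep : letI := (φ.residueFieldMap (genericPoint X)).hom.toAlgebra
      Algebra.IsSeparable (Y.residueField (φ.base (genericPoint X))) (X.residueField (genericPoint X)))
    {ΩY : Y.Modules} {dY : Der pY ΩY} (hY : IsUniversal dY)
    {ΩX : X.Modules} {dX : Der pX ΩX} (hX : IsUniversal dX)
    (c : (Scheme.Modules.pullback φ).obj ΩY ⟶ ΩX) (hc : IsDiffCompat φ dY dX c) : Mono c := by
  haveI : IsLocallyNoetherian Y := LocallyOfFiniteType.isLocallyNoetherian pY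
  haveI : LocallyOfFiniteType (φ ≫ pY) := w ▸ inferInstance
  haveI : LocallyOfFiniteType φ := locallyOfFiniteType_of_comp φ pY
  haveI := JacCrit.OverField.locallyOfFinitePresentation φ
  obtain ⟨W, hW, _⟩ := exists_etale_nhd φ hdom hsep
  haveI := isIso_pullback_map φ w hY hX c hc W
  have hfree : FlatMod.IsFinLocFree ΩY := fun y => by
    obtain ⟨U, n, hy, hi, -⟩ := Kaehler.SmoothChart.exists_free_fibreDim (f := pY) hY y
    exact ⟨U, n, hy, hi⟩
  exact mono_of_isIso_pullback c (Modules.DualBasis.hasDBases_of_isFinLocFree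
    (TensorMod.LocFree.isFinLocFree_pullback φ hfree)) ⟨_, hW⟩

end Groth.Agent.Lib.BirMap96.DiffMono
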