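import Groth.Agent.Lib.Kaehler.DOmega
import Groth.Agent.Lib.Kaehler.BaseChange

/-!
# Differentials of a fibre product
-/

set_option autoImplicit false
universe u

open CategoryTheory CategoryTheory.Limits AlgebraicGeometry Opposite TopologicalSpace OmegaSh
open Groth.Agent.Lib Groth.Agent.Lib.Kaehler.Basic

noncomputable section

namespace Groth.Agent.Lib.BirMap96.DiffProd

variable {Z Y S : Scheme.{u}} {q : Z ⟶ Y} {b : Y ⟶ S} {h : Z ⟶ S} {G : Z.Modules}

/-- A derivation over the intermediate base, as a derivation over the base. -/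
def forget (wq : q ≫ b = h) (D : Der q G) : Der h G :=
  derMk (fun U => AddMonoidHom.mk' (fun s => D.app U s) fun x y => map_add _ x y)
    (fun U x y => der_app_mul D U x y) (fun U W e s => der_app_map D e s) fun V c => by
      subst wq
      exact der_app_app D (b ⁻¹ᵁ V) (b.app V c)

theorem forget_app (wq : q ≫ b = h) (D : Der q G) (U : Z.Opens) (s : Γ(Z, U)) :
    (forget wq D).app U s = D.app U s := rfl

/-- A derivation killing the intermediate base. -/
def lift (D : Der h G) (hD : ∀ (V : Y.Opens) (c : Γ(Y, V)), D.app (q ⁻¹ᵁ V) (q.app V c) = 0) :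
    Der q G :=
  derMk (fun U => AddMonoidHom.mk' (fun s => D.app U s) fun x y => map_add _ x y)
    (fun U x y => der_app_mul D U x y) (fun U W e s => der_app_map D e s) hD

theorem bijective_pair {X : Scheme.{u}} {a : X ⟶ S} {p : Z ⟶ X} (wp : p ≫ a = h) (wq : q ≫ b = h)
    (hb₁ : Function.Bijective (derPush (f := a) (f' := q) p b
      (by rw [wq, wp]) (G := G)))
    (hb₂ : Function.Bijective (derPush (f := b) (f' := p) q a
      (by rw [wq, wp]) (G := G))) :
    Function.Bijective (fun D : Der h G =>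
      (derPush (f := a) (f' := h) p (𝟙 S) (by rw [Category.comp_id, wp]) D,
        derPush (f := b) (f' := h) q (𝟙 S) (by rw [Category.comp_id, wq]) D)) := by
  constructor
  · intro D D' e
    have e1 := congrArg Prod.fst e
    have e2 := congrArg Prod.snd e
    have hz : ∀ (V : Y.Opens) (c : Γ(Y, V)),
        D.app (q ⁻¹ᵁ V) (q.app V c) = D'.app (q ⁻¹ᵁ V) (q.app V c) := fun V c =>
      congrArg (fun E : Der b _ => E.app V c) e2
    let E : Der q G := derMk
      (fun U => AddMonoidHom.mk' (fun s => D.app U s - D'.app U s) fun x y => by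
        rw [map_add, map_add]; abel)
      (fun U x y => by
        change D.app U (x * y) - D'.app U (x * y) = _
        rw [der_app_mul, der_app_mul]
        change _ = x • (D.app U y - D'.app U y) + y • (D.app U x - D'.app U x)
        rw [smul_sub, smul_sub]; abel)
      (fun U W e s => by
        change D.app W _ - D'.app W _ = G.presheaf.map (homOfLE e).op (D.app U s - D'.app U s)
        rw [der_app_map, der_app_map, map_sub])
      (fun V c => sub_eq_zero.mpr (hz V c))
    let E0 : Der q G := derMk (fun U => 0) (fun U x y => by simp) (fun U W e s => by simp)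
      (fun V c => rfl)
    have hE : E = E0 := hb₁.1 (der_ext fun U s => sub_eq_zero.mpr
      (congrArg (fun E : Der a _ => E.app U s) e1))
    exact der_ext fun U s => sub_eq_zero.mp (congrArg (fun E : Der q G => E.app U s) hE)
  · rintro ⟨D₁, D₂⟩
    obtain ⟨E₁, hE₁⟩ := hb₁.2 D₁
    obtain ⟨E₂, hE₂⟩ := hb₂.2 D₂
    let F₁ := forget wq E₁
    let F₂ : Der h G := forget wp E₂
    refine ⟨derMk
      (fun U => AddMonoidHom.mk' (fun s => F₁.app U s + F₂.app U s) fun x y => by
        rw [map_add, map_add]; abel)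
      (fun U x y => by
        change F₁.app U (x * y) + F₂.app U (x * y) = _
        rw [der_app_mul, der_app_mul]
        change _ = x • (F₁.app U y + F₂.app U y) + y • (F₁.app U x + F₂.app U x)
        rw [smul_add, smul_add]; abel)
      (fun U W e s => by
        change F₁.app W _ + F₂.app W _ = G.presheaf.map (homOfLE e).op (F₁.app U s + F₂.app U s)
        rw [der_app_map, der_app_map, map_add])
      (fun V c => by
        change F₁.app _ _ + F₂.app _ _ = 0
        rw [der_app_app, der_app_app, add_zero]), ?_⟩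
    refine Prod.ext (der_ext fun U s => ?_) (der_ext fun U s => ?_)
    · change E₁.app (p ⁻¹ᵁ U) (p.app U s) + E₂.app (p ⁻¹ᵁ U) (p.app U s) = _
      rw [der_app_app, add_zero]
      exact congrArg (fun E : Der a _ => E.app U s) hE₁
    · change E₁.app (q ⁻¹ᵁ U) (q.app U s) + E₂.app (q ⁻¹ᵁ U) (q.app U s) = _
      rw [der_app_app, zero_add]
      exact congrArg (fun E : Der b _ => E.app U s) hE₂

theorem compat_comp {X X' Y Y' : Scheme.{u}} {f : X ⟶ Y} {f' : X' ⟶ Y'} {g : X' ⟶ X} {e : Y' ⟶ Y}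
    (hsq : f' ≫ e = g ≫ f) {Ω₁ : X.Modules} {Ω₂ : X'.Modules} (d₁ : Der f Ω₁) (d₂ : Der f' Ω₂)
    (c : (Scheme.Modules.pullback g).obj Ω₁ ⟶ Ω₂) (hc : IsDiffCompat g d₁ d₂ c) {G : X'.Modules}
    (α : Ω₂ ⟶ G) :
    derComp d₁ ((Scheme.Modules.pullbackPushforwardAdjunction g).homEquiv _ _ (c ≫ α)) =
      derPush g e hsq (derComp d₂ α) := by
  rw [derPush_derComp, ← (isDiffCompat_iff hsq d₁ d₂ c).mp hc, derComp_comp,
    Adjunction.homEquiv_naturality_right]

set_option maxHeartbeats 1000000 in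
theorem isIso_desc {X Y S Z : Scheme.{u}} (a : X ⟶ S) (b : Y ⟶ S)
    (p : Z ⟶ X) (q : Z ⟶ Y) (h : Z ⟶ S) (wp : p ≫ a = h) (wq : q ≫ b = h)
    (hZ : IsPullback p q a b)
    {ΩX : X.Modules} {dX : Der a ΩX} (hX : IsUniversal dX)
    {ΩY : Y.Modules} {dY : Der b ΩY} (hY : IsUniversal dY)
    {ΩZ : Z.Modules} {dZ : Der h ΩZ} (hZu : IsUniversal dZ)
    (c₁ : (Scheme.Modules.pullback p).obj ΩX ⟶ ΩZ) (hc₁ : IsDiffCompat p dX dZ c₁)
    (c₂ : (Scheme.Modules.pullback q).obj ΩY ⟶ ΩZ) (hc₂ : IsDiffCompat q dY dZ c₂) :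
    IsIso (coprod.desc c₁ c₂) := by
  obtain ⟨Ω₁, d₁, h₁⟩ := Kaehler.Exists.exists_isUniversal q
  obtain ⟨Ω₂, d₂, h₂⟩ := Kaehler.Exists.exists_isUniversal p
  have s₁ : q ≫ b = p ≫ a := by rw [wq, wp]
  have s₂ : p ≫ a = q ≫ b := by rw [wq, wp]
  obtain ⟨e₁, he₁⟩ := (existsUnique_diffCompat s₁ hX d₁).exists
  obtain ⟨e₂, he₂⟩ := (existsUnique_diffCompat s₂ hY d₂).exists
  haveI := Kaehler.BaseChange.isIso_of_isPullback hZ hX h₁ e₁ he₁
  haveI := Kaehler.BaseChange.isIso_of_isPullback hZ.flip hY h₂ e₂ he₂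
  have sp : h ≫ 𝟙 S = p ≫ a := by rw [Category.comp_id, wp]
  have sq' : h ≫ 𝟙 S = q ≫ b := by rw [Category.comp_id, wq]
  let A₁ := Scheme.Modules.pullbackPushforwardAdjunction p
  let A₂ := Scheme.Modules.pullbackPushforwardAdjunction q
  refine isIso_of_coyoneda_map_bijective _ fun G => ?_
  have hb := bijective_pair (G := G) wp wq
    (Kaehler.DOmega.derPush_bijective_of_isIso s₁ hX h₁ e₁ he₁ G)
    (Kaehler.DOmega.derPush_bijective_of_isIso s₂ hY h₂ e₂ he₂ G)
  have hX' := (isUniversal_iff dX).mp hX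
  have hY' := (isUniversal_iff dY).mp hY
  let P₁ : ((Scheme.Modules.pullback p).obj ΩX ⟶ G) → Der a ((Scheme.Modules.pushforward p).obj G) :=
    fun β => derComp dX (A₁.homEquiv _ _ β)
  let P₂ : ((Scheme.Modules.pullback q).obj ΩY ⟶ G) → Der b ((Scheme.Modules.pushforward q).obj G) :=
    fun β => derComp dY (A₂.homEquiv _ _ β)
  have hP₁ : Function.Bijective P₁ := (hX' _).comp (A₁.homEquiv _ _).bijective
  have hP₂ : Function.Bijective P₂ := (hY' _).comp (A₂.homEquiv _ _).bijective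
  let g₀ : ((Scheme.Modules.pullback p).obj ΩX ⨿ (Scheme.Modules.pullback q).obj ΩY ⟶ G) →
      ((Scheme.Modules.pullback p).obj ΩX ⟶ G) × ((Scheme.Modules.pullback q).obj ΩY ⟶ G) :=
    fun β => (coprod.inl ≫ β, coprod.inr ≫ β)
  have h0 : Function.Bijective g₀ :=
    ⟨fun x y e => coprod.hom_ext (congrArg Prod.fst e) (congrArg Prod.snd e),
      fun z => ⟨coprod.desc z.1 z.2, Prod.ext (coprod.inl_desc _ _) (coprod.inr_desc _ _)⟩⟩
  let Φ := Prod.map P₁ P₂ ∘ g₀
  have hΦ : Function.Bijective Φ := Function.Bijective.comp (Function.Bijective.prodMap hP₁ hP₂) h0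
  have key : Φ ∘ (fun α : ΩZ ⟶ G => coprod.desc c₁ c₂ ≫ α) = (fun D : Der h G =>
      (derPush (f := a) (f' := h) p (𝟙 S) sp D, derPush (f := b) (f' := h) q (𝟙 S) sq' D)) ∘
        (fun α => derComp dZ α) := by
    funext α
    simp only [Φ, g₀, P₁, P₂, Function.comp_apply, Prod.map_apply, coprod.inl_desc_assoc, coprod.inr_desc_assoc]
    exact Prod.ext (compat_comp sp dX dZ c₁ hc₁ α) (compat_comp sq' dY dZ c₂ hc₂ α)
  exact (Function.Bijective.of_comp_iff' hΦ _).mp (key ▸ hb.comp ((isUniversal_iff dZ).mp hZu G))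

end Groth.Agent.Lib.BirMap96.DiffProd
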