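import Groth.Agent.Lib.BirMap96.SepGeneric
import Groth.Agent.Lib.BirMap96.SmoothCritScheme
import Groth.Agent.Lib.PBasis.Cartier
import Groth.Agent.Lib.PointDim.Basic
import Groth.Agent.Lib.Kaehler.AffineUniv
import Groth.Agent.Lib.Kaehler.ToSect
import Groth.Agent.Lib.KoszulSh.Divisor.Copies
import Mathlib.LinearAlgebra.ExteriorPower.Basic
import Mathlib.LinearAlgebra.Dual.Lemmas
import Mathlib.LinearAlgebra.Matrix.Determinant.Basic
import Mathlib.AlgebraicGeometry.Fiber

/-!
# The rank of the pullback of differentials at the generic point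
-/

set_option autoImplicit false
set_option linter.style.haveILetI false
universe u

open CategoryTheory CategoryTheory.Limits AlgebraicGeometry Opposite TopologicalSpace TensorProduct
open Groth.Agent.Lib OmegaSh Groth.Agent.Lib.Kaehler.Basic
open Groth.Agent.Lib.TensorMod.Dual (rs rf rs_rs rs_smul)

noncomputable section

namespace Groth.Agent.Lib.BirMap96.DiffRank

/-- The differentials of a finitely generated field extension have dimension at least its
transcendence degree. -/
theorem trdeg_le_finrank_kaehler (k F : Type u) [Field k] [Field F] [Algebra k F]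
    [Algebra.EssFiniteType k F] :
    Cardinal.toNat (Algebra.trdeg k F) ≤ Module.finrank F (Ω[F⁄k]) := by
  obtain ⟨_, _, h⟩ := PBasis.Cartier.hasIndex_iff.mp
    (PBasis.Cartier.hasIndex_trdeg (K := k) (L := F))
  omega

/-- A spanning family of differentials of a separable extension contains many independent ones. -/
theorem exists_indep {k F L : Type u} [Field k] [Field F] [Field L] [Algebra k F] [Algebra k L]
    [Algebra F L] [IsScalarTower k F L] [Algebra.FormallySmooth F L] [Algebra.EssFiniteType k F]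
    {d m : ℕ} (hm : m ≤ Cardinal.toNat (Algebra.trdeg k F)) (w : Fin d → Ω[L⁄k])
    (hw : ∀ x : F, KaehlerDifferential.D k L (algebraMap F L x) ∈ Submodule.span L (Set.range w)) :
    ∃ g : Fin m → Fin d, LinearIndependent L (w ∘ g) := by
  let S := Submodule.span L (Set.range w)
  haveI : Module.Finite L (Submodule.span L (Set.range w)) :=
    Module.Finite.span_of_finite L (Set.finite_range w)
  have hrange : LinearMap.range (KaehlerDifferential.mapBaseChange k F L) ≤ S := by
    rintro _ ⟨z, rfl⟩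
    induction z using TensorProduct.induction_on with
    | zero => simp
    | add a b ha hb => rw [map_add]; exact S.add_mem ha hb
    | tmul x ω =>
      rw [KaehlerDifferential.mapBaseChange_tmul]
      refine S.smul_mem x ?_
      have hω : ω ∈ Submodule.span F (Set.range (KaehlerDifferential.D k F)) := by
        rw [KaehlerDifferential.span_range_derivation]; trivial
      induction hω using Submodule.span_induction with
      | mem y hy =>
        obtain ⟨a, rfl⟩ := hy
        rw [KaehlerDifferential.map_D]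
        exact hw a
      | zero => simp
      | add a b _ _ ha hb => rw [map_add]; exact S.add_mem ha hb
      | smul r a _ ha =>
        rw [map_smul, ← algebraMap_smul L r]
        exact S.smul_mem _ ha
  have hinj : Function.Injective (KaehlerDifferential.mapBaseChange k F L) := by
    rw [injective_iff_map_eq_zero]
    intro x hx
    obtain ⟨y, rfl⟩ := (Algebra.H1Cotangent.exact_δ_mapBaseChange k F L x).mp hx
    rw [Subsingleton.elim y 0, map_zero]
  have h1 : Module.finrank F (Ω[F⁄k]) ≤ Module.finrank L S := by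
    rw [← Module.finrank_baseChange (R := L), ← LinearMap.finrank_range_of_inj hinj]
    exact Submodule.finrank_mono hrange
  obtain ⟨v, hvs, -, hv⟩ := Submodule.exists_fun_fin_finrank_span_eq L (Set.range w)
  have hle : m ≤ Module.finrank L S := (hm.trans (trdeg_le_finrank_kaehler k F)).trans h1
  choose g hg using hvs
  refine ⟨g ∘ Fin.castLE hle, ?_⟩
  have : w ∘ g ∘ Fin.castLE hle = v ∘ Fin.castLE hle := funext fun i => hg _
  rw [this]
  exact hv.comp _ (Fin.castLE_injective hle)

/-- Vectors whose semilinear images are independent over a field have a nonzero wedge. -/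
theorem indep_of_semilinear {R L M W : Type u} [CommRing R] [Field L] [AddCommGroup M] [Module R M]
    [AddCommGroup W] [Module L W] {m : ℕ} (j : R →+* L) (hj : Function.Injective j)
    (θ : M →+ W) (hθ : ∀ (r : R) x, θ (r • x) = j r • θ x) (s : Fin m → M)
    (hs : LinearIndependent L (θ ∘ s)) :
    LinearIndependent R s ∧ exteriorPower.ιMulti R m s ≠ 0 := by
  refine ⟨?_, ?_⟩
  · rw [Fintype.linearIndependent_iff]
    intro g hg i
    refine hj (((Fintype.linearIndependent_iff.mp hs) (fun i => j (g i)) ?_ i).trans (map_zero j).symm)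
    simp only [Function.comp_apply, ← hθ, ← map_sum, hg, map_zero]
  · letI : Algebra R L := j.toAlgebra
    let T := Submodule.span L (Set.range (θ ∘ s))
    obtain ⟨p, hp⟩ := LinearMap.exists_extend ((Module.Basis.span hs).equivFun : T →ₗ[L] Fin m → L)
    let π : M →ₗ[R] (Fin m → L) :=
      { toFun := fun x => p (θ x)
        map_add' := fun x y => by rw [map_add, map_add]
        map_smul' := fun r x => by
          rw [hθ, map_smul, RingHom.id_apply, ← algebraMap_smul L r]
          rfl }
    let det' : (Fin m → L) [⋀^Fin m]→ₗ[R] L :=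
      { (Matrix.detRowAlternating : (Fin m → L) [⋀^Fin m]→ₗ[L] L).toMultilinearMap.restrictScalars R with
        map_eq_zero_of_eq' := fun v i j h hij => Matrix.detRowAlternating.map_eq_zero_of_eq v h hij }
    let a : M [⋀^Fin m]→ₗ[R] L := det'.compLinearMap π
    have ha : a s = 1 := by
      change Matrix.det (fun i => p (θ (s i))) = 1
      have h : (fun i => p (θ (s i))) = (1 : Matrix (Fin m) (Fin m) L) := by
        funext i
        have h2 : p (θ (s i)) = (Module.Basis.span hs).equivFun (Module.Basis.span hs i) := by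
          have h3 := LinearMap.congr_fun hp (Module.Basis.span hs i)
          rw [LinearMap.comp_apply] at h3
          refine Eq.trans ?_ h3
          congr 1
          exact (congrArg Subtype.val (Module.Basis.span_apply hs i)).symm
        rw [h2]
        funext l
        rw [Module.Basis.equivFun_apply, Module.Basis.repr_self, Finsupp.single_apply,
          Matrix.one_apply]
      rw [h, Matrix.det_one]
    intro h0
    have h := exteriorPower.alternatingMapLinearEquiv_apply_ιMulti a s
    rw [h0, map_zero, ha] at h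
    exact zero_ne_one h

section Theta

variable {R L : CommRingCat.{u}} {X : Scheme.{u}} {p : X ⟶ Spec R} (φ : R ⟶ L) (j : Spec L ⟶ X)

/-- The value at the point `j` of a function. -/
def val (V : X.Opens) (hV : (⊤ : (Spec L).Opens) ≤ j ⁻¹ᵁ V) : Γ(X, V) →+* L :=
  (j.appLE V ⊤ hV ≫ (Scheme.ΓSpecIso L).hom).hom

theorem val_res {U V : X.Opens} (h : V ≤ U) (hV : (⊤ : (Spec L).Opens) ≤ j ⁻¹ᵁ V) (r : Γ(X, U)) :
    val j V hV (X.presheaf.map (homOfLE h).op r) =
      val j U (hV.trans (fun _ hz => h hz)) r := by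
  change (X.presheaf.map (homOfLE h).op ≫ j.appLE V ⊤ hV ≫ (Scheme.ΓSpecIso L).hom) r = _
  rw [Scheme.Hom.map_appLE_assoc]
  rfl

/-- A residue field point of `Z` evaluates functions at the point. -/
theorem appLE_residue {Z : Scheme.{u}} (η : Z) {B : CommRingCat.{u}} (ι : Z.residueField η ⟶ B)
    (V : Z.Opens) (hV : η ∈ V) (h : (⊤ : (Spec B).Opens) ≤
      (Spec.map ι ≫ Z.fromSpecResidueField η) ⁻¹ᵁ V) :
    (Spec.map ι ≫ Z.fromSpecResidueField η).appLE V ⊤ h ≫ (Scheme.ΓSpecIso B).hom =
      Z.presheaf.germ V η hV ≫ Z.residue η ≫ ι := by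
  have e : Spec.map ι ≫ Z.fromSpecResidueField η = Spec.map (Z.residue η ≫ ι) ≫ Z.fromSpecStalk η := by
    rw [Spec.map_comp, Category.assoc]
    rfl
  simp only [e]
  have h' : (⊤ : (Spec (Z.presheaf.stalk η)).Opens) ≤ Z.fromSpecStalk η ⁻¹ᵁ V := by
    intro z _
    change Z.fromSpecStalk η z ∈ V
    exact (show Z.fromSpecStalk η z ⤳ η from by
      have hz := Set.mem_range_self (f := Z.fromSpecStalk η) z
      rw [Scheme.range_fromSpecStalk] at hz
      exact hz).mem_open V.2 hV
  rw [← Scheme.Hom.appLE_comp_appLE (Spec.map (Z.residue η ≫ ι)) (Z.fromSpecStalk η) V ⊤ ⊤ h'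
    (by simp)]
  conv_lhs => rw [Scheme.Hom.appLE, Scheme.fromSpecStalk_app hV]
  simp only [Category.assoc, Scheme.Hom.map_appLE]
  rw [show (Spec.map (Z.residue η ≫ ι)).appLE ⊤ ⊤ (by simp) = (Spec.map (Z.residue η ≫ ι)).appTop from
    Scheme.Hom.appLE_eq_app _, Scheme.ΓSpecIso_naturality, Iso.inv_hom_id_assoc]

/-- Evaluation of differential forms at the point `j`. -/
theorem exists_theta (sq : j ≫ p = Spec.map φ) {Ω₁ : X.Modules} {d : Der p Ω₁} (hd : IsUniversal d) :
    ∃ θ : ∀ V : X.Opens, ((⊤ : (Spec L).Opens) ≤ j ⁻¹ᵁ V) →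
        Γ(Ω₁, V) →+ CommRingCat.KaehlerDifferential φ,
      (∀ V hV (r : Γ(X, V)) (x : Γ(Ω₁, V)), θ V hV (r • x) = val j V hV r • θ V hV x) ∧
      (∀ U V (h : V ≤ U) hV (x : Γ(Ω₁, U)),
        θ V hV (rs Ω₁ h x) = θ U (hV.trans (fun _ hz => h hz)) x) ∧
      (∀ V hV (t : Γ(X, V)),
        θ V hV (d.app V t) = CommRingCat.KaehlerDifferential.d (f := φ) (val j V hV t)) := by
  obtain ⟨d'', -, hval⟩ := Kaehler.AffineUniv.exists_isUniversal_tilde φ
  have sq' : Spec.map φ ≫ 𝟙 _ = j ≫ p := by rw [Category.comp_id, sq]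
  obtain ⟨c₁, hc₁⟩ := (existsUnique_diffCompat sq' hd d'').exists
  let M := CommRingCat.KaehlerDifferential φ
  haveI := tilde.isIso_toOpen_top (M := M)
  let ψ := inv (tilde.toOpen M ⊤)
  let θ : ∀ V : X.Opens, ((⊤ : (Spec L).Opens) ≤ j ⁻¹ᵁ V) →
      Γ(Ω₁, V) →+ CommRingCat.KaehlerDifferential φ := fun V hV =>
    AddMonoidHom.mk' (fun x => ψ (rs (Kaehler.AffineUniv.omegaAff φ) hV
      (c₁.app (j ⁻¹ᵁ V) (pullSect j Ω₁ V x)))) (fun x y => by
      rw [map_add, map_add]
      exact (congrArg ψ (map_add ((Kaehler.AffineUniv.omegaAff φ).presheaf.map (homOfLE hV).op).hom _ _)).trans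
        (map_add ψ.hom _ _))
  refine ⟨θ, fun V hV r x => ?_, fun U V h hV x => ?_, fun V hV t => ?_⟩
  · change ψ (rs _ hV (c₁.app (j ⁻¹ᵁ V) (pullSect j Ω₁ V (r • x)))) = _
    rw [Kaehler.ToSect.pullSect_smul, Scheme.Modules.Hom.app_smul, rs_smul,
      Kaehler.AffineUniv.top_smul]
    exact map_smul ψ.hom _ _
  · change ψ (rs _ hV (c₁.app (j ⁻¹ᵁ V) (pullSect j Ω₁ V (rs Ω₁ h x)))) = _
    have hle : j ⁻¹ᵁ V ≤ j ⁻¹ᵁ U := fun _ hz => h hz
    have h1 : pullSect j Ω₁ V (rs Ω₁ h x) =
        rs ((Scheme.Modules.pullback j).obj Ω₁) hle (pullSect j Ω₁ U x) :=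
      ((Scheme.Modules.pullbackPushforwardAdjunction j).unit.app Ω₁).mapPresheaf.naturality_apply
        (homOfLE h).op x
    rw [h1, Modules.TensorSec.app_rs, rs_rs]
    rfl
  · change ψ (rs _ hV (c₁.app (j ⁻¹ᵁ V) (pullSect j Ω₁ V (d.app V t)))) = _
    rw [hc₁ V t]
    have h2 : rs (Kaehler.AffineUniv.omegaAff φ) hV (d''.app (j ⁻¹ᵁ V) (j.app V t)) =
        tilde.toOpen M ⊤ (CommRingCat.KaehlerDifferential.d (f := φ) (val j V hV t)) := by
      rw [← hval]
      change (Kaehler.AffineUniv.omegaAff φ).presheaf.map (homOfLE hV).op _ = _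
      rw [← der_app_map]
      congr 1
      exact (Iso.hom_inv_id_apply (Scheme.ΓSpecIso L) _).symm
    rw [h2]
    exact congr($(IsIso.hom_inv_id (tilde.toOpen M ⊤)) (CommRingCat.KaehlerDifferential.d (f := φ) (val j V hV t)))

end Theta

variable {k : Type u} [Field k] {X Z : Scheme.{u}}

/-- Sections of differentials coming from a free pullback, independent at the generic point. -/
theorem exists_sections [IsIntegral X] (pX : X ⟶ Spec (CommRingCat.of k))
    (pZ : Z ⟶ Spec (CommRingCat.of k)) [LocallyOfFiniteType pZ] (f : X ⟶ Z) (hf : f ≫ pZ = pX)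
    (η : Z) (hη : closure {η} = closure (Set.range f.base)) (m : ℕ)
    (hm : topologicalKrullDim (closure (Set.range f.base)) = m)
    (hsep : GeometricallyReduced (pullback.snd f (Z.fromSpecResidueField η)))
    (ΩZ : Z.Modules) (dZ : Der pZ ΩZ)
    (ΩX : X.Modules) (dX : Der pX ΩX) (hdX : IsUniversal dX)
    (c : (Scheme.Modules.pullback f).obj ΩZ ⟶ ΩX) (hc : IsDiffCompat f dZ dX c)
    (hfree : ∃ d : ℕ, Nonempty ((Scheme.Modules.pullback f).obj ΩZ ≅ FlatMod.freeMod X d)) :
    ∃ s : Fin m → Γ(ΩX, ⊤), ∀ V : X.Opens, (V : Set X).Nonempty →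
      LinearIndependent Γ(X, V) (fun i => rs ΩX (le_top : V ≤ ⊤) (s i)) ∧
      exteriorPower.ιMulti Γ(X, V) m (fun i => rs ΩX (le_top : V ≤ ⊤) (s i)) ≠ 0 := by
  set ξ := genericPoint X with hξ
  have hfξ : f ξ = η := by
    have h1 : IsGenericPoint (f ξ) (closure (Set.range f.base)) := by
      have h := (genericPoint_spec X).image f.continuous
      rwa [Set.image_univ] at h
    exact h1.eq hη
  subst hfξ
  let η := f ξ
  have : GeometricallyReduced (f.fiberToSpecResidueField η) := hsep
  haveI : IsReduced (f.fiber η) :=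
    GeometricallyReduced.geometrically_isReduced (f := f.fiberToSpecResidueField η)
      (𝟙 (Spec (Z.residueField η))) (𝟙 (f.fiber η)) (f.fiberToSpecResidueField η)
      (IsPullback.id_horiz _)
  -- the generic point of the fibre
  have hgen : ∀ w : f.fiber η, f.asFiber ξ ⤳ w := fun w => by
    rw [← (f.fiberι η).isEmbedding.toIsInducing.specializes_iff, Scheme.Hom.fiberι_asFiber]
    exact genericPoint_specializes _
  have hgen' : IsGenericPoint (f.asFiber ξ) Set.univ :=
    isGenericPoint_iff_specializes.mpr fun w => ⟨fun _ => trivial, fun _ => hgen w⟩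
  haveI : IrreducibleSpace (f.fiber η) :=
    irreducibleSpace_def _ |>.mpr hgen'.isIrreducible
  haveI : IsIntegral (f.fiber η) := isIntegral_of_irreducibleSpace_of_isReduced _
  have hξ' : genericPoint (f.fiber η) = f.asFiber ξ := (genericPoint_spec _).eq hgen'
  let W := f.fiber η
  let ξ' := genericPoint W
  let L : CommRingCat.{u} := W.presheaf.stalk ξ'
  letI : Field L := (Field.toIsField W.functionField : IsField L).toField
  let j : Spec L ⟶ X := W.fromSpecStalk ξ' ≫ f.fiberι η
  haveI : Subsingleton (Spec L) := inferInstanceAs (Subsingleton (PrimeSpectrum L))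
  have hrange : ∀ z, j z = ξ := fun z => by
    have hz : W.fromSpecStalk ξ' z = ξ' := by
      rw [Subsingleton.elim z (IsLocalRing.closedPoint L), Scheme.fromSpecStalk_closedPoint]
    change f.fiberι η (W.fromSpecStalk ξ' z) = ξ
    rw [hz]
    change f.fiberι η (genericPoint (f.fiber η)) = ξ
    rw [hξ', Scheme.Hom.fiberι_asFiber]
  have htop : ∀ {V : X.Opens}, ξ ∈ V → (⊤ : (Spec L).Opens) ≤ j ⁻¹ᵁ V := fun {V} hV z _ => by
    show j z ∈ V
    rw [hrange]
    exact hV
  -- the fields
  let F := Z.residueField η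
  let ι : F ⟶ L := Spec.preimage (W.fromSpecStalk ξ' ≫ f.fiberToSpecResidueField η)
  let φF : CommRingCat.of k ⟶ F := PointDim.Basic.kToRes pZ η
  let φ : CommRingCat.of k ⟶ L := φF ≫ ι
  have hjf : j ≫ f = Spec.map ι ≫ Z.fromSpecResidueField η := by
    rw [Spec.map_preimage, Category.assoc, Category.assoc]
    erw [← f.fiber_fac η]
  have sq : j ≫ pX = Spec.map φ := by
    rw [← hf, ← Category.assoc, hjf, Category.assoc, ← PointDim.Basic.specMap_kToRes,
      ← Spec.map_comp]
  letI : Algebra k F := φF.hom.toAlgebra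
  letI : Algebra F L := ι.hom.toAlgebra
  letI : Algebra k L := φ.hom.toAlgebra
  haveI : IsScalarTower k F L := IsScalarTower.of_algebraMap_eq fun _ => rfl
  haveI : Algebra.FormallySmooth F L := by
    let snd := f.fiberToSpecResidueField η
    haveI : IsIntegral (Spec F) := inferInstance
    have hpt : snd ξ' = genericPoint (Spec F) := Subsingleton.elim _ _
    have h1 := SepGeneric.formallySmooth_stalkMap snd hpt inferInstance
    let t : F ⟶ (Spec F).presheaf.stalk (snd ξ') := StructureSheaf.toStalk F (snd ξ')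
    have hι : ι = t ≫ snd.stalkMap ξ' := by
      apply Spec.map_injective
      rw [Spec.map_preimage]
      exact (Scheme.SpecMap_stalkMap_fromSpecStalk snd).symm.trans
        ((congrArg (Spec.map (snd.stalkMap ξ') ≫ ·) (Spec.fromSpecStalk_eq' F (snd ξ'))).trans
          (Spec.map_comp _ _).symm)
    haveI : (snd ξ').asIdeal.IsPrime := (show PrimeSpectrum F from snd ξ').isPrime
    letI : Algebra F ((Spec F).presheaf.stalk (snd ξ')) := StructureSheaf.stalkAlgebra _ _
    haveI : IsLocalization.AtPrime ((Spec F).presheaf.stalk (snd ξ')) (snd ξ').asIdeal :=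
      StructureSheaf.IsLocalization.to_stalk F (snd ξ')
    haveI : Algebra.FormallyEtale F ((Spec F).presheaf.stalk (snd ξ')) :=
      Algebra.FormallyEtale.of_isLocalization (snd ξ').asIdeal.primeCompl
    letI : Algebra ((Spec F).presheaf.stalk (snd ξ')) L := (snd.stalkMap ξ').hom.toAlgebra
    haveI : IsScalarTower F ((Spec F).presheaf.stalk (snd ξ')) L :=
      IsScalarTower.of_algebraMap_eq fun x => by
        change ι x = _
        rw [hι]
        rfl
    haveI : Algebra.FormallySmooth ((Spec F).presheaf.stalk (snd ξ')) L := h1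
    exact Algebra.FormallySmooth.comp F ((Spec F).presheaf.stalk (snd ξ')) L
  haveI : Algebra.EssFiniteType k F := by
    letI : Z.Over (Spec (CommRingCat.of k)) := ⟨pZ⟩
    haveI : LocallyOfFiniteType (Z ↘ Spec (CommRingCat.of k)) := ‹_›
    letI := Curv2.stalkAlgebra k Z η
    haveI := SmoothCritScheme.essFiniteType_stalk k (X := Z) η
    have hφF : φF = CommRingCat.ofHom (Curv2.stalkMap k Z η) ≫ Z.residue η := by
      apply Spec.map_injective
      rw [PointDim.Basic.specMap_kToRes, Spec.map_comp]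
      erw [← SmoothCurve.Curve.fromSpecStalk_comp]
      rfl
    have h2 : ((Z.residue η).hom.comp (Curv2.stalkMap k Z η)).EssFiniteType :=
      RingHom.EssFiniteType.comp ‹Algebra.EssFiniteType k (Z.presheaf.stalk η)›
        (RingHom.FiniteType.essFiniteType (RingHom.FiniteType.of_surjective _ (Z.residue_surjective η)))
    change φF.hom.EssFiniteType
    rw [hφF]
    exact h2
  have hdim : m ≤ Cardinal.toNat (Algebra.trdeg k F) := by
    have h := PointDim.Basic.topologicalKrullDim_closure_singleton pZ η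
    rw [hη, hm] at h
    exact le_of_eq (by exact_mod_cast h)
  -- evaluation of forms at the point
  obtain ⟨θ', hθs', hθr', hθd'⟩ := exists_theta φ j sq hdX
  let θ : ∀ V : X.Opens, ((⊤ : (Spec L).Opens) ≤ j ⁻¹ᵁ V) → Γ(ΩX, V) →+ Ω[L⁄k] := θ'
  have hθs : ∀ (V : X.Opens) hV (r : Γ(X, V)) (x : Γ(ΩX, V)),
      θ V hV (r • x) = val j V hV r • θ V hV x := hθs'
  have hθr : ∀ (U V : X.Opens) (h : V ≤ U) hV (x : Γ(ΩX, U)),
      θ V hV (rs ΩX h x) = θ U (hV.trans (fun _ hz => h hz)) x := hθr'
  have hθd : ∀ (V : X.Opens) hV (t : Γ(X, V)),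
      θ V hV (dX.app V t) = KaehlerDifferential.D k L (val j V hV t) := hθd'
  obtain ⟨d, ⟨e⟩⟩ := hfree
  let s₀ : Fin d → Γ(ΩX, ⊤) := fun i => c.app ⊤ (e.inv.app ⊤ (KoszulSh.Copies.g X d ⊤ i))
  let w : Fin d → Ω[L⁄k] := fun i => θ ⊤ (htop (V := ⊤) trivial) (s₀ i)
  have hspan : ∀ (V : X.Opens) (hV : ξ ∈ V) (y : Γ((Scheme.Modules.pullback f).obj ΩZ, V)),
      (θ V (htop hV) (c.app V y) : Ω[L⁄k]) ∈ Submodule.span L (Set.range w) := by
    intro V hV y
    have hy : y = e.inv.app V (e.hom.app V y) := by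
      rw [← ConcreteCategory.comp_apply, ← Scheme.Modules.Hom.comp_app, Iso.hom_inv_id]
      rfl
    rw [hy, ← (KoszulSh.Copies.Bg X d V).sum_repr (e.hom.app V y)]
    simp only [map_sum, KoszulSh.Copies.Bg_eq, Scheme.Modules.Hom.app_smul, hθs]
    refine Submodule.sum_mem _ fun i _ => Submodule.smul_mem _ _ (Submodule.subset_span ⟨i, ?_⟩)
    rw [← KoszulSh.Copies.rs_g (X := X) (le_top : V ≤ ⊤), Modules.TensorSec.app_rs,
      Modules.TensorSec.app_rs, hθr]
  have hw : ∀ x : F, KaehlerDifferential.D k L (algebraMap F L x) ∈ Submodule.span L (Set.range w) := by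
    intro x
    obtain ⟨t, rfl⟩ := Z.residue_surjective η x
    obtain ⟨V, hV, a, rfl⟩ := TopCat.Presheaf.exists_germ_eq Z.presheaf t
    have hξV : ξ ∈ f ⁻¹ᵁ V := hV
    have h := hspan (f ⁻¹ᵁ V) hξV (pullSect f ΩZ V (dZ.app V a))
    rw [hc V a, hθd] at h
    have e1 : algebraMap F L (Z.residue η (Z.presheaf.germ V η hV a)) =
        val j (f ⁻¹ᵁ V) (htop hξV) (f.app V a) := by
      change ι (Z.residue η (Z.presheaf.germ V η hV a)) =
        (f.app V ≫ j.appLE (f ⁻¹ᵁ V) ⊤ (htop hξV) ≫ (Scheme.ΓSpecIso L).hom) a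
      rw [← Category.assoc,
        show f.app V ≫ j.appLE (f ⁻¹ᵁ V) ⊤ (htop hξV) = (j ≫ f).appLE V ⊤ (htop hξV) from
          (Scheme.Hom.comp_appLE j f V ⊤ (htop hξV)).symm]
      simp only [hjf]
      rw [appLE_residue η ι V hV]
      rfl
    rw [e1]
    exact h
  obtain ⟨g, hg⟩ := exists_indep hdim w hw
  refine ⟨fun i => s₀ (g i), fun V hV => ?_⟩
  have hξV : ξ ∈ V := ((genericPoint_spec X).mem_open_set_iff V.2).mpr (by simpa using hV)
  refine indep_of_semilinear (W := Ω[L⁄k]) (val j V (htop hξV)) ?_ (θ V (htop hξV)) (hθs V _) _ ?_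
  · rw [injective_iff_map_eq_zero]
    intro r hr
    by_contra hr0
    haveI : Nonempty V := hV.to_subtype
    have hb : ξ ∈ X.basicOpen r := by
      rw [X.mem_basicOpen r ξ hξV, isUnit_iff_ne_zero]
      intro h0
      exact hr0 (germ_injective_of_isIntegral X ξ hξV (h0.trans (map_zero _).symm))
    have h1 : IsUnit (val j (X.basicOpen r) (htop hb) (X.presheaf.map (homOfLE (X.basicOpen_le r)).op r)) :=
      (RingedSpace.isUnit_res_basicOpen X.toRingedSpace r).map _
    rw [val_res, hr] at h1
    exact not_isUnit_zero h1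
  · have : (θ V (htop hξV)) ∘ (fun i => rs ΩX (le_top : V ≤ ⊤) (s₀ (g i))) = w ∘ g :=
      funext fun i => hθr _ _ _ _ _
    exact (this ▸ hg : LinearIndependent L ((θ V (htop hξV)) ∘ fun i => rs ΩX (le_top : V ≤ ⊤) (s₀ (g i))))

end Groth.Agent.Lib.BirMap96.DiffRank
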