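import Groth.Agent.Lib.BirMap96.SmoothCritScheme
import Groth.Agent.Lib.NormAmple.GenStalk
import Mathlib.AlgebraicGeometry.Morphisms.UniversallyOpen
import Mathlib.RingTheory.Smooth.Field
import Mathlib.RingTheory.Smooth.Flat

/-!
# Dominance and injectivity of the cotangent map
-/

set_option autoImplicit false
set_option linter.style.haveILetI false
universe u

open CategoryTheory CategoryTheory.Limits AlgebraicGeometry IsLocalRing TopologicalSpace
open Groth.Agent.Lib Groth.Agent.Lib.BirMap96.SmoothCritScheme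

namespace Groth.Agent.Lib.BirMap96.DominantCrit

attribute [local instance] Curv2.stalkAlgebra

/-- A dominant quasi-compact map from a Noetherian space hits the generic point by a maximal point. -/
theorem exists_max_preimage {X Y : Scheme.{u}} [IrreducibleSpace Y] [NoetherianSpace X] (u : X ⟶ Y)
    (hu : DenseRange u.base) : ∃ ξ : X, (∀ z, z ⤳ ξ → z = ξ) ∧ u ξ = genericPoint Y := by
  classical
  have hfin := NoetherianSpace.finite_irreducibleComponents (α := X)
  let S : Finset (Set Y) := hfin.toFinset.image fun Z => closure (u.base '' Z)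
  have hcov : (Set.univ : Set Y) ⊆ ⋃₀ (S : Set (Set Y)) := by
    rw [← hu.closure_range]
    refine closure_minimal ?_ (isClosed_sUnion' S fun T hT => ?_)
    · rintro _ ⟨x, rfl⟩
      obtain ⟨Z, hZ, hxZ⟩ := exists_mem_irreducibleComponents_subset_of_isIrreducible _
        (isIrreducible_singleton (x := x))
      exact ⟨_, Finset.mem_coe.2 (Finset.mem_image.2 ⟨Z, hfin.mem_toFinset.2 hZ, rfl⟩),
        subset_closure ⟨x, hxZ rfl, rfl⟩⟩
    · obtain ⟨Z, -, rfl⟩ := Finset.mem_image.1 hT
      exact isClosed_closure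
  obtain ⟨T, hT, hTu⟩ := isIrreducible_iff_sUnion_isClosed.1 (IrreducibleSpace.isIrreducible_univ Y) S
    (fun T hT => by
      obtain ⟨Z, -, rfl⟩ := Finset.mem_image.1 hT
      exact isClosed_closure) hcov
  obtain ⟨Z, hZ, rfl⟩ := Finset.mem_image.1 hT
  obtain ⟨ξ, hmax, hg⟩ := Flat55.FlatEquidim.exists_isMax_isGenericPoint (hfin.mem_toFinset.1 hZ)
  refine ⟨ξ, hmax, ?_⟩
  have h := hg.image u.continuous
  rw [Set.eq_univ_of_univ_subset hTu] at h
  exact h.eq (genericPoint_spec Y)
where
  isClosed_sUnion' (S : Finset (Set Y)) (h : ∀ T ∈ S, IsClosed T) :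
      IsClosed (⋃₀ (S : Set (Set Y))) := by
    rw [Set.sUnion_eq_biUnion]
    exact S.finite_toSet.isClosed_biUnion h

variable {k : Type u} [Field k] [IsAlgClosed k] {X Y : Scheme.{u}}
  [X.Over (Spec (CommRingCat.of k))] [Y.Over (Spec (CommRingCat.of k))]
  [LocallyOfFiniteType (X ↘ Spec (CommRingCat.of k))] [LocallyOfFiniteType (Y ↘ Spec (CommRingCat.of k))]
  [IsIntegral Y] (u : X ⟶ Y)
  (hu : u ≫ (Y ↘ Spec (CommRingCat.of k)) = X ↘ Spec (CommRingCat.of k))

include hu in
theorem isDominant_of_injective (P : X) (hP : IsClosed ({P} : Set X))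
    (hreg : IsRegularLocalRing (X.presheaf.stalk P))
    (hinj : Function.Injective (FixPt.cotangentMapAt u P (u P) rfl)) : IsDominant u := by
  haveI := JacCrit.OverField.locallyOfFinitePresentation (X ↘ Spec (CommRingCat.of k))
  haveI := lfp u hu
  have hPs := JacCrit.OverField.mem_smoothLocus_of_isRegular
    (f := X ↘ Spec (CommRingCat.of k)) P hreg
  have hs : P ∈ u.smoothLocus := Scheme.Hom.mem_smoothLocus.mpr
    ((formallySmooth_iff' u hu hP (formallySmooth_stalk_of_mem k P hPs)).mpr hinj)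
  obtain ⟨U, hPU, hU⟩ := (JacCrit.SmoothNhd.exists_smooth_nhd_iff u P).mpr hs
  have hopen : IsOpen (Set.range (U.ι ≫ u).base) := (U.ι ≫ u).isOpenMap.isOpen_range
  haveI : IsDominant (U.ι ≫ u) :=
    ⟨hopen.dense ⟨_, Set.mem_range_self (⟨P, hPU⟩ : (U : Scheme.{u}))⟩⟩
  exact IsDominant.of_comp U.ι u

include hu in
theorem exists_point_of_isDominant [CharZero k] [QuasiCompact (X ↘ Spec (CommRingCat.of k))]
    [IsReduced X] [IsDominant u] :
    ∃ P : X, IsClosed ({P} : Set X) ∧ IsRegularLocalRing (X.presheaf.stalk P) ∧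
      Function.Injective (FixPt.cotangentMapAt u P (u P) rfl) := by
  haveI := JacCrit.OverField.locallyOfFinitePresentation (X ↘ Spec (CommRingCat.of k))
  haveI := lfp u hu
  haveI : IsLocallyNoetherian X := LocallyOfFiniteType.isLocallyNoetherian (X ↘ Spec (CommRingCat.of k))
  haveI : CompactSpace X := QuasiCompact.compactSpace_of_compactSpace (X ↘ Spec (CommRingCat.of k))
  haveI : IsNoetherian X := {}
  haveI : JacobsonSpace X := LocallyOfFiniteType.jacobsonSpace (X ↘ Spec (CommRingCat.of k))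
  obtain ⟨ξ, hmax, hη⟩ := exists_max_preimage u u.denseRange
  have hB : IsField (X.presheaf.stalk ξ) := NormAmple.GenStalk.isField_stalk fun z hz => hmax z hz
  have hA : IsField (Y.presheaf.stalk (u ξ)) := by
    rw [hη]
    exact Field.toIsField Y.functionField
  have hξX : ξ ∈ (X ↘ Spec (CommRingCat.of k)).smoothLocus := by
    refine JacCrit.OverField.mem_smoothLocus_of_isRegular (f := X ↘ Spec (CommRingCat.of k)) ξ ?_
    letI := hB.toField
    infer_instance
  have hξu : ξ ∈ u.smoothLocus := by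
    rw [Scheme.Hom.mem_smoothLocus]
    letI := (u.stalkMap ξ).hom.toAlgebra
    haveI : Algebra.EssFiniteType (Y.presheaf.stalk (u ξ)) (X.presheaf.stalk ξ) :=
      LocallyOfFiniteType.stalkMap u ξ
    letI : Algebra k (Y.presheaf.stalk (u ξ)) := Curv2.stalkAlgebra k Y (u ξ)
    letI := hA.toField
    letI := hB.toField
    haveI : CharZero (Y.presheaf.stalk (u ξ)) := charZero_of_injective_algebraMap
      (RingHom.injective (algebraMap k (Y.presheaf.stalk (u ξ))))
    exact (Algebra.FormallySmooth.of_perfectField :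
      Algebra.FormallySmooth (Y.presheaf.stalk (u ξ)) (X.presheaf.stalk ξ))
  obtain ⟨P, ⟨hPX, hPu⟩, hP⟩ := nonempty_inter_closedPoints
    (Z := (((X ↘ Spec (CommRingCat.of k)).smoothLocus ⊓ u.smoothLocus : X.Opens) : Set X))
    ⟨ξ, hξX, hξu⟩ (Opens.isOpen _).isLocallyClosed
  exact ⟨P, hP, JacCrit.OverField.isRegularLocalRing_stalk _ P hPX,
    (formallySmooth_iff' u hu hP (formallySmooth_stalk_of_mem k P hPX)).mp
      (Scheme.Hom.mem_smoothLocus.mp hPu)⟩

omit [IsAlgClosed k] [X.Over (Spec (CommRingCat.of k))] [Y.Over (Spec (CommRingCat.of k))]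
  [LocallyOfFiniteType (X ↘ Spec (CommRingCat.of k))] [LocallyOfFiniteType (Y ↘ Spec (CommRingCat.of k))]
  [IsIntegral Y] in
theorem injective_iff (P : X) :
    Function.Injective (FixPt.cotangentMapAt u P (u P) rfl) ↔
      ∀ a ∈ IsLocalRing.maximalIdeal (Y.presheaf.stalk (u P)),
          (u.stalkMap P).hom a ∈ IsLocalRing.maximalIdeal (X.presheaf.stalk P) ^ 2 →
            a ∈ IsLocalRing.maximalIdeal (Y.presheaf.stalk (u P)) ^ 2 :=
  (cotInjective_iff u P).symm

end Groth.Agent.Lib.BirMap96.DominantCrit
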