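import Mathlib.AlgebraicGeometry.Morphisms.Proper
import Mathlib.AlgebraicGeometry.IdealSheaf.Functorial
import Groth.Prelude.Def_Lef
import Groth.Agent.Lib.CurveBundle.Indec
import Groth.Agent.S4495
import Mathlib.CategoryTheory.Functor.OfSequence

/-!
# Formal functions along a connected closed subscheme of a proper scheme
-/

universe u

open CategoryTheory CategoryTheory.Limits AlgebraicGeometry

namespace Groth.Agent.Lib.BirMap96.FormalFun

theorem isUnit_limit {J : Type} [SmallCategory J] (F : J ⥤ CommRingCat.{u}) [HasLimit F]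
    (a : ↑(limit F)) (h : ∀ j, IsUnit ((limit.π F j).hom a)) : IsUnit a := by
  let L : CommRingCat.{u} := CommRingCat.of (Localization.Away a)
  let ψ : ∀ j, L ⟶ F.obj j := fun j =>
    CommRingCat.ofHom (IsLocalization.Away.lift a (h j) : Localization.Away a →+* F.obj j)
  have hψ : ∀ j, CommRingCat.ofHom (algebraMap ↑(limit F) (Localization.Away a)) ≫ ψ j =
      limit.π F j := fun j => by
    ext z
    exact IsLocalization.Away.lift_eq a (h j) z
  have hnat : ∀ (i j : J) (g : i ⟶ j), ψ j = ψ i ≫ F.map g := fun i j g => by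
    apply CommRingCat.hom_ext
    refine IsLocalization.ringHom_ext (R := ↑(limit F)) (S := Localization.Away a)
      (Submonoid.powers a) (RingHom.ext fun z => ?_)
    have := RingHom.congr_fun (congrArg CommRingCat.Hom.hom (limit.w F g)) z
    have hi := RingHom.congr_fun (congrArg CommRingCat.Hom.hom (hψ i)) z
    have hj := RingHom.congr_fun (congrArg CommRingCat.Hom.hom (hψ j)) z
    simp only [CommRingCat.hom_comp, RingHom.comp_apply] at this hi hj
    exact hj.trans (this.symm.trans (congrArg (F.map g).hom hi.symm))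
  let c : Cone F := ⟨L,
    { app := ψ
      naturality := fun i j g => (Category.id_comp (ψ j)).trans (hnat i j g) }⟩
  have hid : CommRingCat.ofHom (algebraMap ↑(limit F) (Localization.Away a)) ≫ limit.lift F c =
      𝟙 _ := limit.hom_ext fun j => by
    rw [Category.assoc, limit.lift_π, Category.id_comp]
    exact hψ j
  have := (IsLocalization.Away.algebraMap_isUnit (S := Localization.Away a) a).map (limit.lift F c).hom
  have e : (limit.lift F c).hom (algebraMap ↑(limit F) (Localization.Away a) a) = a :=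
    RingHom.congr_fun (congrArg CommRingCat.Hom.hom hid) a
  rwa [e] at this

theorem exists_const {k : Type u} [Field k] [IsAlgClosed k] {W : Scheme.{u}} [ConnectedSpace W]
    (q : W ⟶ Spec (CommRingCat.of k)) [UniversallyClosed q] (a : Γ(W, ⊤)) :
    ∃ c : k, IsNilpotent (a - q.appTop.hom ((Scheme.ΓSpecIso (CommRingCat.of k)).inv.hom c)) := by
  let φ : k →+* Γ(W, ⊤) := q.appTop.hom.comp (Scheme.ΓSpecIso (CommRingCat.of k)).inv.hom
  letI := φ.toAlgebra
  have hint : φ.IsIntegral :=
    RingHom.isIntegral_respectsIso.2 (e := (Scheme.ΓSpecIso (CommRingCat.of k)).symm.commRingCatIsoToRingEquiv)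
      q.appTop.hom (isIntegral_appTop_of_universallyClosed q)
  haveI : Nontrivial Γ(W, ⊤) :=
    (W.presheaf.germ ⊤ (Classical.arbitrary W) trivial).hom.domain_nontrivial
  obtain ⟨c, hc⟩ := CurveBundle.Indec.exists_isNilpotent_sub
    ((Groth.Agent.S4495.result W.toLocallyRingedSpace).mp
      (inferInstance : ConnectedSpace W).toPreconnectedSpace) a (hint a)
  exact ⟨c, hc⟩

theorem connectedSpace_subscheme {X : Scheme.{u}} (𝓘 : X.IdealSheafData)
    (hY : _root_.IsConnected (𝓘.support : Set X)) (m : ℕ) :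
    ConnectedSpace (𝓘 ^ (m + 1)).subscheme := by
  have h : Set.range (𝓘 ^ (m + 1)).subschemeι = (𝓘.support : Set X) := by
    rw [Scheme.IdealSheafData.range_subschemeι, Scheme.IdealSheafData.support_pow 𝓘 (m + 1) m.succ_ne_zero]
  have he := (𝓘 ^ (m + 1)).subschemeι.isClosedEmbedding.isEmbedding
  have : _root_.IsConnected (Set.univ : Set (𝓘 ^ (m + 1)).subscheme) := by
    refine ⟨?_, he.isInducing.isPreconnected_image.mp ?_⟩
    · obtain ⟨x, hx⟩ := hY.nonempty
      rw [← h] at hx
      obtain ⟨w, -⟩ := hx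
      exact ⟨w, trivial⟩
    · rw [Set.image_univ, h]; exact hY.isPreconnected
  exact connectedSpace_iff_univ.mpr this

section

variable (k : Type u) [Field k] [IsAlgClosed k] {X : Scheme.{u}}
  [X.Over (Spec (CommRingCat.of k))] [IsProper (X ↘ (Spec (CommRingCat.of k)))]
  (𝓘 : X.IdealSheafData)

noncomputable abbrev tower : ℕᵒᵖ ⥤ CommRingCat.{u} :=
  Functor.ofOpSequence (X := fun m : ℕ => Γ((𝓘 ^ (m + 1)).subscheme, ⊤))
    (fun m : ℕ => (Scheme.IdealSheafData.inclusion (Lef.pow_succ_le 𝓘 m)).appTop)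

noncomputable abbrev proj (m : ℕ) :
    ↑(limit (tower 𝓘)) →+* Γ((𝓘 ^ (m + 1)).subscheme, ⊤) :=
  (limit.π (tower 𝓘) (Opposite.op m)).hom

noncomputable abbrev const (m : ℕ) : k →+* Γ((𝓘 ^ (m + 1)).subscheme, ⊤) :=
  ((𝓘 ^ (m + 1)).subschemeι ≫ (X ↘ Spec (CommRingCat.of k))).appTop.hom.comp
    (Scheme.ΓSpecIso (CommRingCat.of k)).inv.hom

theorem step_const (m : ℕ) (c : k) :
    (Scheme.IdealSheafData.inclusion (Lef.pow_succ_le 𝓘 m)).appTop.hom (const k 𝓘 (m + 1) c) =
      const k 𝓘 m c := by
  have h := congrArg Scheme.Hom.appTop (congrArg (· ≫ (X ↘ Spec (CommRingCat.of k)))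
    (Scheme.IdealSheafData.inclusion_subschemeι (Lef.pow_succ_le 𝓘 m)))
  simp only [Category.assoc] at h
  rw [Scheme.Hom.comp_appTop] at h
  exact RingHom.congr_fun (congrArg CommRingCat.Hom.hom h) _

theorem main (hY : _root_.IsConnected (𝓘.support : Set X)) :
    IsLocalRing ↑(limit (tower 𝓘)) ∧
      ∀ a : ↑(limit (tower 𝓘)), ∃ c : k, ∀ m : ℕ,
        IsNilpotent (proj 𝓘 m a - const k 𝓘 m c) := by
  have hconn := connectedSpace_subscheme 𝓘 hY
  have hnt : ∀ m, Nontrivial Γ((𝓘 ^ (m + 1)).subscheme, ⊤) := fun m =>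
    have := hconn m
    ((𝓘 ^ (m + 1)).subscheme.presheaf.germ ⊤ (Classical.arbitrary _) trivial).hom.domain_nontrivial
  have key : ∀ a : ↑(limit (tower 𝓘)), ∃ c : k, ∀ m : ℕ,
      IsNilpotent (proj 𝓘 m a - const k 𝓘 m c) := fun a => by
    choose c hc using fun m => (haveI := hconn m; exists_const
      ((𝓘 ^ (m + 1)).subschemeι ≫ (X ↘ Spec (CommRingCat.of k)))
      (proj 𝓘 m a))
    have hstep : ∀ m, c (m + 1) = c m := fun m => by
      have hw := RingHom.congr_fun (congrArg CommRingCat.Hom.hom
        (limit.w (tower 𝓘) (homOfLE m.le_succ).op)) a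
      simp only [Functor.ofOpSequence_map_homOfLE_succ, CommRingCat.hom_comp,
        RingHom.comp_apply] at hw
      have h1 : IsNilpotent (proj 𝓘 m a - const k 𝓘 m (c (m + 1))) := by
        have := (hc (m + 1)).map (Scheme.IdealSheafData.inclusion (Lef.pow_succ_le 𝓘 m)).appTop.hom
        rw [map_sub] at this
        convert this using 2
        · exact hw.symm
        · exact (step_const k 𝓘 m _).symm
      have h2 : IsNilpotent (const k 𝓘 m (c (m + 1) - c m)) := by
        have := (Commute.all _ _).isNilpotent_sub (hc m) h1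
        rw [map_sub]
        simpa using this
      by_contra hne
      haveI := hnt m
      exact h2.not_isUnit ((sub_ne_zero.mpr hne).isUnit.map (const k 𝓘 m))
    have hconst : ∀ m, c m = c 0 := fun m => by
      induction m with
      | zero => rfl
      | succ m ih => rw [hstep, ih]
    exact ⟨c 0, fun m => hconst m ▸ hc m⟩
  have hu : ∀ a : ↑(limit (tower 𝓘)), ∀ c : k, c ≠ 0 → (∀ m : ℕ,
      IsNilpotent (proj 𝓘 m a - const k 𝓘 m c)) → IsUnit a :=
    fun a c hc h => isUnit_limit _ a fun j => by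
      have := (h j.unop).isUnit_add_left_of_commute (hc.isUnit.map (const k 𝓘 j.unop))
        (Commute.all _ _)
      rw [add_sub_cancel] at this
      exact this
  refine ⟨?_, key⟩
  haveI : Nontrivial ↑(limit (tower 𝓘)) :=
    have := hnt 0
    (proj 𝓘 0).domain_nontrivial
  refine IsLocalRing.of_isUnit_or_isUnit_one_sub_self fun a => ?_
  obtain ⟨c, hc⟩ := key a
  rcases eq_or_ne c 0 with rfl | h0
  · refine Or.inr (hu _ 1 one_ne_zero fun m => ?_)
    have := (hc m).neg
    rw [map_zero, sub_zero] at this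
    rw [map_sub, map_one, map_one, sub_sub_cancel_left]
    exact this
  · exact Or.inl (hu a c h0 hc)

end

end Groth.Agent.Lib.BirMap96.FormalFun
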