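import Mathlib.AlgebraicGeometry.IdealSheaf.Functorial
import Mathlib.AlgebraicGeometry.Morphisms.Flat
import Groth.Agent.H52.FDesc.SchImage
import Groth.Agent.Lib.HilbD.Closed
import Groth.Agent.Lib.FibreDeg.Basic

/-!
# Scheme-theoretic image of a product over a field
-/

universe u

open CategoryTheory CategoryTheory.Limits AlgebraicGeometry

namespace Groth.Agent.Lib.BirMap96.ImageProd

theorem ker_of_isPullback {P A B C : Scheme.{u}} {t : P ⟶ A} {l : P ⟶ B} {r : A ⟶ C} {b : B ⟶ C}
    (h : IsPullback t l r b) [QuasiCompact r] [Flat b] : l.ker = r.ker.comap b := by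
  rw [← h.isoPullback_hom_snd, Scheme.Hom.ker_comp_of_isIso]
  exact H52.FDesc.SchImage.ker_baseChange r b

theorem map_comap_eq_sup {A B : Scheme.{u}} (c : A ⟶ B) [IsClosedImmersion c]
    (J : B.IdealSheafData) : (J.comap c).map c = J ⊔ c.ker := by
  have h : c.ker.comap c = ⊥ := by
    rw [← Scheme.IdealSheafData.map_bot c]
    exact le_bot_iff.mp (Scheme.IdealSheafData.comap_map_le _ _)
  have h2 : (J ⊔ c.ker).comap c = J.comap c := by
    rw [Scheme.IdealSheafData.comap_sup, h, sup_bot_eq]
  rw [← h2]
  exact HilbD.Closed.map_comap c le_sup_right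

theorem ker_map_map {k : Type u} [Field k] {A B X Y : Scheme.{u}}
    (a : A ⟶ Spec (CommRingCat.of k)) (b : B ⟶ Spec (CommRingCat.of k))
    (x : X ⟶ Spec (CommRingCat.of k)) (y : Y ⟶ Spec (CommRingCat.of k))
    (f : A ⟶ X) [QuasiCompact f] (g : B ⟶ Y) [QuasiCompact g] (hf : f ≫ x = a) (hg : g ≫ y = b)
    (F : pullback a b ⟶ pullback x y) (hF₁ : F ≫ pullback.fst x y = pullback.fst a b ≫ f)
    (hF₂ : F ≫ pullback.snd x y = pullback.snd a b ≫ g) :
    F.ker = f.ker.comap (pullback.fst x y) ⊔ g.ker.comap (pullback.snd x y) := by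
  haveI := FibreDeg.Basic.flat_of_field b
  haveI := FibreDeg.Basic.flat_of_field x
  haveI : Flat (pullback.fst x b) :=
    MorphismProperty.of_isPullback (IsPullback.of_hasPullback x b).flip ‹Flat b›
  let F₁ : pullback a b ⟶ pullback x b :=
    pullback.lift (pullback.fst a b ≫ f) (pullback.snd a b)
      (by rw [Category.assoc, hf, pullback.condition])
  let F₂ : pullback x b ⟶ pullback x y :=
    pullback.lift (pullback.fst x b) (pullback.snd x b ≫ g)
      (by rw [Category.assoc, hg, pullback.condition])
  have hF : F = F₁ ≫ F₂ := pullback.hom_ext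
    (by rw [hF₁, Category.assoc, pullback.lift_fst, pullback.lift_fst])
    (by rw [hF₂, Category.assoc, pullback.lift_snd, pullback.lift_snd_assoc])
  have sq₁ : IsPullback (pullback.fst a b) F₁ f (pullback.fst x b) := by
    refine IsPullback.of_bot ?_ ((pullback.lift_fst _ _ _).symm)
      (IsPullback.of_hasPullback x b)
    rw [pullback.lift_snd, hf]
    exact IsPullback.of_hasPullback a b
  have sq₂ : IsPullback (pullback.snd x b) F₂ g (pullback.snd x y) := by
    refine IsPullback.of_bot ?_ ((pullback.lift_snd _ _ _).symm)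
      (IsPullback.of_hasPullback x y).flip
    rw [pullback.lift_fst, hg]
    exact (IsPullback.of_hasPullback x b).flip
  haveI : QuasiCompact F₂ := MorphismProperty.of_isPullback sq₂ ‹QuasiCompact g›
  let I := f.ker
  let c := pullback.fst (pullback.fst x y) I.subschemeι
  have hc : c.ker = I.comap (pullback.fst x y) := rfl
  haveI : Flat (c ≫ pullback.snd x y) := MorphismProperty.of_isPullback
    ((IsPullback.of_hasPullback (pullback.fst x y) I.subschemeι).flip.paste_vert
      (IsPullback.of_hasPullback x y))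
    (FibreDeg.Basic.flat_of_field (I.subschemeι ≫ x))
  have sq₃ : IsPullback (pullback.fst F₂ c ≫ pullback.snd x b) (pullback.snd F₂ c) g
      (c ≫ pullback.snd x y) :=
    ((IsPullback.of_hasPullback F₂ c).flip.paste_vert sq₂.flip).flip
  rw [hF, Scheme.Hom.ker_comp, ker_of_isPullback sq₁,
    show pullback.fst x b = F₂ ≫ pullback.fst x y from (pullback.lift_fst _ _ _).symm,
    Scheme.IdealSheafData.comap_comp, ← hc, ← Scheme.IdealSheafData.ker_fst_of_isClosedImmersion,
    Scheme.IdealSheafData.map_ker, pullback.condition, Scheme.Hom.ker_comp, ker_of_isPullback sq₃,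
    Scheme.IdealSheafData.comap_comp, map_comap_eq_sup, hc, sup_comm]

end Groth.Agent.Lib.BirMap96.ImageProd
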