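import Groth.Agent.Lib.BirMap96.DiffMono
import Groth.Agent.Lib.Modules.Free
import Groth.Agent.Lib.Modules.Stalk
import Groth.Prelude.Def_PicLoc

/-!
# A map of line bundles on an integral scheme is zero or generically an isomorphism
-/

set_option autoImplicit false
universe u

open CategoryTheory CategoryTheory.Limits AlgebraicGeometry Opposite TopologicalSpace
open Groth.Agent.Lib
open Groth.Agent.Lib.TensorMod.Dual (rs rf rs_rs rs_smul)
open Groth.Agent.Lib.Modules.TensorSec (section_ext rs_zero app_rs)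

noncomputable section

namespace Groth.Agent.Lib.BirMap96.LineHom

variable {X : Scheme.{u}}

theorem eq_unitHom (ψ : Coh.structureModule X ⟶ Coh.structureModule X) :
    ψ = Modules.Free.unitHom _ (ψ.app ⊤ (1 : Γ(X, ⊤))) :=
  Modules.Free.unitHom_ext (Modules.Free.unitHom_app_one _ _).symm

theorem bijective_app_unitHom (a : Γ(X, ⊤)) (V : X.Opens) (hV : V ≤ X.basicOpen a) :
    Function.Bijective ((Modules.Free.unitHom (Coh.structureModule X) a).app V) := by
  have hu : IsUnit (X.presheaf.map (homOfLE (le_top (a := V))).op a) := by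
    have h := (RingedSpace.isUnit_res_basicOpen X.toRingedSpace a).map
      (X.presheaf.map (homOfLE hV).op).hom
    convert h using 1
    exact (congr($(X.presheaf.map_comp (homOfLE (le_top (a := X.basicOpen a))).op (homOfLE hV).op) a))
  exact (IsUnit.isUnit_iff_mulRight_bijective (M := Γ(X, V))).mp hu

variable [IsIntegral X]

theorem eq_zero_or_exists_bijective {E F : X.Modules} (hE : PicF.IsInvertible E)
    (hF : PicF.IsInvertible F) (hFd : Modules.DualBasis.HasDBases F) (c : E ⟶ F) :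
    c = 0 ∨ ∃ W : X.Opens, (W : Set X).Nonempty ∧ ∀ V ≤ W, Function.Bijective (c.app V) := by
  obtain ⟨x⟩ : Nonempty X := inferInstance
  obtain ⟨U₁, h₁, ⟨e₁⟩⟩ := hE (genericPoint X)
  obtain ⟨U₂, h₂, ⟨e₂⟩⟩ := hF (genericPoint X)
  let U := U₁ ⊓ U₂
  have triv : ∀ {M : X.Modules} {U₀ : X.Opens} (_ : M.restrict U₀.ι ≅ Coh.structureModule (↑U₀))
      (_ : U ≤ U₀), Nonempty (M.restrict U.ι ≅ Coh.structureModule (↑U)) := fun {M U₀} e h =>
    ⟨(Scheme.Modules.restrictFunctorCongr (X.homOfLE_ι h).symm).app M ≪≫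
      (Scheme.Modules.restrictFunctorComp (X.homOfLE h) U₀.ι).app M ≪≫
      (Scheme.Modules.restrictFunctor (X.homOfLE h)).mapIso e ≪≫
      Scheme.Modules.restrictUnitIso (X.homOfLE h)⟩
  obtain ⟨f₁⟩ := triv e₁ inf_le_left
  obtain ⟨f₂⟩ := triv e₂ inf_le_right
  let cU := (Scheme.Modules.restrictFunctor U.ι).map c
  let ψ := f₁.inv ≫ cU ≫ f₂.hom
  have hψ : cU = f₁.hom ≫ ψ ≫ f₂.inv := by simp [ψ]
  let a : Γ((U : Scheme.{u}), ⊤) := ψ.app ⊤ (1 : Γ((U : Scheme.{u}), ⊤))
  haveI : Nonempty U := ⟨⟨genericPoint X, h₁, h₂⟩⟩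
  by_cases ha : a = 0
  · left
    have hψ0 : ψ = 0 := Modules.Free.unitHom_ext (ha.trans rfl)
    have hcU : cU = 0 := by rw [hψ, hψ0]; simp
    refine Scheme.Modules.hom_ext _ _ fun V => ConcreteCategory.ext_apply fun r => ?_
    change c.app V r = 0
    refine DiffMono.eq_zero_of_rs hFd (W := U) ⟨genericPoint X, h₁, h₂⟩ ?_
    have hle : U.ι ''ᵁ (U.ι ⁻¹ᵁ V) ≤ V := U.ι.image_preimage_le V
    have hle' : U ⊓ V ≤ U.ι ''ᵁ (U.ι ⁻¹ᵁ V) := fun z hz => ⟨⟨z, hz.1⟩, hz.2, rfl⟩
    have h0 : c.app (U.ι ''ᵁ (U.ι ⁻¹ᵁ V)) (rs E hle r) = 0 := by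
      change cU.app (U.ι ⁻¹ᵁ V) (rs E hle r) = 0
      rw [hcU]
      rfl
    rw [← rs_rs F hle hle', ← app_rs c hle r, h0, rs_zero]
  · right
    refine ⟨U.ι ''ᵁ (U : Scheme.{u}).basicOpen a, ?_, fun V hV => ?_⟩
    · obtain ⟨z, hz⟩ : ((U : Scheme.{u}).basicOpen a : Set U).Nonempty := by
        rw [Set.nonempty_iff_ne_empty]
        exact fun h => ha ((basicOpen_eq_bot_iff a).mp (TopologicalSpace.Opens.ext h))
      exact ⟨_, z, hz, rfl⟩
    · have hV' : U.ι ''ᵁ (U.ι ⁻¹ᵁ V) = V := by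
        refine le_antisymm (U.ι.image_preimage_le V) fun z hz => ?_
        obtain ⟨w, -, rfl⟩ := hV hz
        exact ⟨w, hz, rfl⟩
      have hpre : U.ι ⁻¹ᵁ V ≤ (U : Scheme.{u}).basicOpen a := fun z hz => by
        obtain ⟨w, hw, e⟩ := hV (show U.ι z ∈ V from hz)
        rwa [U.ι.isOpenEmbedding.injective e] at hw
      have h1 : Function.Bijective (ψ.app (U.ι ⁻¹ᵁ V)) := by
        rw [eq_unitHom ψ]
        exact bijective_app_unitHom a _ hpre
      have h2 : Function.Bijective (cU.app (U.ι ⁻¹ᵁ V)) := by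
        rw [hψ, Scheme.Modules.Hom.comp_app, Scheme.Modules.Hom.comp_app]
        exact ((ConcreteCategory.bijective_of_isIso (f₂.inv.app _)).comp h1).comp
          (ConcreteCategory.bijective_of_isIso (f₁.hom.app _))
      have key : ∀ V' : X.Opens, U.ι ''ᵁ (U.ι ⁻¹ᵁ V) = V' →
          Function.Bijective (c.app V') := fun V' e => by subst e; exact h2
      exact key V hV'

theorem isInvertible_pullback_omega {X Y : Scheme.{u}} [IsIntegral Y] {k : Type u} [Field k]
    (p : Y ⟶ Spec (CommRingCat.of k)) [Smooth p] (hd : topologicalKrullDim Y = 1)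
    {Ω : Y.Modules} {d : OmegaSh.Der p Ω} (hΩ : OmegaSh.IsUniversal d) :
    PicF.IsInvertible Ω ∧ FlatMod.IsFinLocFree Ω := by
  have h : FlatMod.IsFinLocFreeOfRank 1 Ω := fun y => by
    obtain ⟨U, n, hy, hi, hn⟩ := Kaehler.SmoothChart.exists_free_fibreDim (f := p) hΩ y
    rw [JacCrit.OverField.fibreDimAt_eq_localDim, JacCrit.OverField.localDim_eq_of_irreducible p,
      hd] at hn
    have : n = 1 := by exact_mod_cast hn.symm
    exact ⟨U, hy, this ▸ hi⟩
  exact ⟨TensorMod.LocFree.isInvertible_of_rank_one h, fun y =>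
    let ⟨U, hy, hi⟩ := h y; ⟨U, 1, hy, hi⟩⟩

theorem dichotomy {k : Type u} [Field k] {Y : Scheme.{u}}
    (pX : X ⟶ Spec (CommRingCat.of k)) (pY : Y ⟶ Spec (CommRingCat.of k)) (φ : X ⟶ Y)
    [Smooth pX] (hdX : topologicalKrullDim X = 1)
    [IsIntegral Y] [Smooth pY] (hdY : topologicalKrullDim Y = 1)
    {ΩY : Y.Modules} {dY : OmegaSh.Der pY ΩY} (hY : OmegaSh.IsUniversal dY)
    {ΩX : X.Modules} {dX : OmegaSh.Der pX ΩX} (hX : OmegaSh.IsUniversal dX)
    (c : (Scheme.Modules.pullback φ).obj ΩY ⟶ ΩX) :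
    c = 0 ∨ (Mono c ∧ ∃ U : X.Opens, (U : Set X).Nonempty ∧
      IsZero ((Scheme.Modules.pullback U.ι).obj (cokernel c))) := by
  obtain ⟨hYi, hYf⟩ := isInvertible_pullback_omega (X := X) pY hdY hY
  obtain ⟨hXi, hXf⟩ := isInvertible_pullback_omega (X := X) pX hdX hX
  rcases eq_zero_or_exists_bijective (PicLoc.isInvertible_pullback φ hYi) hXi
    (Modules.DualBasis.hasDBases_of_isFinLocFree hXf) c with h | ⟨W, hW, hb⟩
  · exact Or.inl h
  haveI : IsIso ((Scheme.Modules.restrictFunctor W.ι).map c) := by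
    rw [Modules.Stalk.isIso_iff_app_bijective]
    exact fun V => hb (W.ι ''ᵁ V) (W.ι_image_le V)
  haveI : IsIso ((Scheme.Modules.pullback W.ι).map c) :=
    (NatIso.isIso_map_iff (Scheme.Modules.restrictFunctorIsoPullback W.ι) c).mp inferInstance
  refine Or.inr ⟨DiffMono.mono_of_isIso_pullback c
    (Modules.DualBasis.hasDBases_of_isFinLocFree (TensorMod.LocFree.isFinLocFree_pullback φ hYf)) hW,
    W, hW, ?_⟩
  haveI : (Scheme.Modules.pullback W.ι).IsLeftAdjoint :=
    (Scheme.Modules.pullbackPushforwardAdjunction W.ι).isLeftAdjoint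
  haveI : Epi ((Scheme.Modules.pullback W.ι).map (cokernel.π c)) := inferInstance
  refine IsZero.of_epi_eq_zero ((Scheme.Modules.pullback W.ι).map (cokernel.π c)) ?_
  rw [← cancel_epi ((Scheme.Modules.pullback W.ι).map c), ← Functor.map_comp, cokernel.condition,
    Functor.map_zero, comp_zero]

end Groth.Agent.Lib.BirMap96.LineHom
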