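import Groth.Agent.Lib.SurfInt.Stalk
import Groth.Agent.Lib.SurfInt.Div
import Groth.Agent.H95.ZeroSch
import Groth.Agent.Lib.Ideal.Prime
import Groth.Agent.Lib.ClSub.Cartier
import Groth.Agent.Lib.Regular.Quotient
import Groth.Agent.Lib.RefHull.LocFree
import Groth.Agent.Lib.ModelFibre.StalkIdeal

/-!
# The ideal of a closed point is invertible iff the point is regular of dimension one
-/

set_option autoImplicit false
set_option linter.style.haveILetI false
universe u

open CategoryTheory AlgebraicGeometry TopologicalSpace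

noncomputable section

namespace Groth.Agent.Lib.BirMap96.PointCartier

open Groth.Agent.Lib Groth.Agent.Lib.Ideal.Prime Groth.Agent.Lib.Ideal.EffCartier

variable {X : Scheme.{u}} (P : X) (hP : IsClosed ({P} : Set X))

/-- The ideal sheaf of the reduced point. -/
abbrev IP : X.IdealSheafData := Scheme.IdealSheafData.vanishingIdeal ⟨{P}, hP⟩

theorem stalkIdeal_point :
    stalkIdeal (IP P hP) P = IsLocalRing.maximalIdeal (X.presheaf.stalk P) := by
  obtain ⟨U, hU, hPU, -⟩ := exists_isAffineOpen_mem_and_subset (show P ∈ (⊤ : X.Opens) from trivial)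
  letI := X.presheaf.algebra_section_stalk ⟨P, hPU⟩
  haveI := hU.isLocalization_stalk ⟨P, hPU⟩
  have h1 : (IP P hP).ideal ⟨U, hU⟩ = (hU.primeIdealOf ⟨P, hPU⟩).asIdeal := by
    rw [IP, Scheme.IdealSheafData.vanishingIdeal_ideal]
    change PrimeSpectrum.vanishingIdeal (hU.fromSpec ⁻¹' ({P} : Set X)) = _
    have : hU.fromSpec ⁻¹' ({P} : Set X) = {hU.primeIdealOf ⟨P, hPU⟩} := Set.ext fun q =>
      ⟨fun h => hU.fromSpec.isEmbedding.injective
          ((show hU.fromSpec q = P from h).trans (hU.fromSpec_primeIdealOf ⟨P, hPU⟩).symm),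
        fun h => (congrArg hU.fromSpec h).trans (hU.fromSpec_primeIdealOf _)⟩
    exact (congrArg PrimeSpectrum.vanishingIdeal this).trans (PrimeSpectrum.vanishingIdeal_singleton _)
  rw [stalkIdeal_eq _ ⟨U, hU⟩ hPU, h1]
  exact IsLocalization.AtPrime.map_eq_maximalIdeal (hU.primeIdealOf ⟨P, hPU⟩).asIdeal _

theorem isPrincipal_of_isInvertible (h : PicF.IsInvertible (_root_.ClSub.idealMod (IP P hP))) :
    ∃ c, IsLocalRing.maximalIdeal (X.presheaf.stalk P) = Ideal.span {c} := by
  obtain ⟨F, hPF, -⟩ := H95.ZeroSch.exists_frame h (show P ∈ (⊤ : X.Opens) from trivial)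
  obtain ⟨h1, -⟩ := SurfInt.Div.span_germ_eq_top F.he hPF
  refine ⟨SurfInt.Stalk.idealStalk (IP P hP) P
    ((_root_.ClSub.idealMod (IP P hP)).presheaf.germ F.V.1 P hPF F.e), ?_⟩
  rw [← stalkIdeal_point P hP, ← SurfInt.Stalk.range_idealStalk, LinearMap.range_eq_map, ← h1,
    Submodule.map_span, Set.image_singleton]

theorem isRegularLocalRing_of_isInvertible [IsLocallyNoetherian X]
    (hdim : 1 ≤ ringKrullDim (X.presheaf.stalk P))
    (h : PicF.IsInvertible (_root_.ClSub.idealMod (IP P hP))) :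
    IsRegularLocalRing (X.presheaf.stalk P) := by
  obtain ⟨c, hc⟩ := isPrincipal_of_isInvertible P hP h
  refine IsRegularLocalRing.of_spanFinrank_maximalIdeal_le _ (le_trans ?_ hdim)
  have h1 : (IsLocalRing.maximalIdeal (X.presheaf.stalk P)).spanFinrank ≤ 1 := by
    rw [hc]
    exact (Submodule.spanFinrank_span_le_ncard_of_finite (Set.finite_singleton c)).trans
      (Set.ncard_singleton c).le
  exact_mod_cast h1

theorem isInvertible_of_regular [IsLocallyNoetherian X] [IsRegularLocalRing (X.presheaf.stalk P)]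
    (hdim : ringKrullDim (X.presheaf.stalk P) = 1) :
    PicF.IsInvertible (_root_.ClSub.idealMod (IP P hP)) := by
  refine ClSub.Cartier.isInvertible_idealMod fun x => ?_
  by_cases hxP : x = P
  swap
  · obtain ⟨U, hU, hxU, hle⟩ := exists_isAffineOpen_mem_and_subset
      (U := ⟨({P} : Set X)ᶜ, hP.isOpen_compl⟩) (show x ∈ ({P} : Set X)ᶜ from hxP)
    refine ⟨⟨U, hU⟩, hxU, 1, one_mem _, ?_⟩
    rw [Ideal.span_singleton_one, IP, Scheme.IdealSheafData.vanishingIdeal_ideal]
    change PrimeSpectrum.vanishingIdeal (hU.fromSpec ⁻¹' ({P} : Set X)) = ⊤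
    have : hU.fromSpec ⁻¹' ({P} : Set X) = ∅ := Set.eq_empty_of_forall_notMem fun q hq => by
      have hqU : hU.fromSpec q ∈ U := by
        have := Set.mem_range_self (f := hU.fromSpec) q
        rwa [hU.range_fromSpec] at this
      exact hle hqU hq
    exact (congrArg PrimeSpectrum.vanishingIdeal this).trans PrimeSpectrum.vanishingIdeal_empty
  subst hxP
  haveI := Regular.Quotient.isDomain (X.presheaf.stalk x)
  haveI := RefHull.LocFree.isPrincipalIdealRing_of_regular (X.presheaf.stalk x) hdim.le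
  obtain ⟨p, hp⟩ := (IsPrincipalIdealRing.principal
    (IsLocalRing.maximalIdeal (X.presheaf.stalk x))).principal
  rw [Ideal.submodule_span_eq] at hp
  have hp0 : p ≠ 0 := by
    rintro rfl
    rw [Ideal.span_singleton_zero] at hp
    have := ringKrullDim_eq_zero_of_isField (IsLocalRing.isField_iff_maximalIdeal_eq.2 hp)
    rw [hdim] at this
    exact one_ne_zero this
  rw [← stalkIdeal_point x hP] at hp
  -- spread the generator out
  obtain ⟨U, hxU, hU, hinj⟩ := X.exists_germ_injective x
  set I := IP x hP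
  letI := TopCat.Presheaf.algebra_section_stalk X.presheaf (⟨x, hxU⟩ : U)
  have := hU.isLocalization_stalk ⟨x, hxU⟩
  set M := (hU.primeIdealOf ⟨x, hxU⟩).asIdeal.primeCompl
  rw [stalkIdeal_eq I ⟨U, hU⟩ hxU] at hp
  obtain ⟨⟨⟨a, haI⟩, ⟨s, hs⟩⟩, has⟩ := (IsLocalization.mem_map_algebraMap_iff M (X.presheaf.stalk x)).1
    (hp.ge (Ideal.mem_span_singleton_self p))
  have hsu : IsUnit (algebraMap Γ(X, U) (X.presheaf.stalk x) s) := IsLocalization.map_units _ ⟨s, hs⟩
  have hspan : Ideal.span {p} = Ideal.span {algebraMap Γ(X, U) (X.presheaf.stalk x) a} := by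
    rw [← has]; exact (Ideal.span_singleton_mul_right_unit hsu p).symm
  have : IsNoetherianRing Γ(X, U) := IsLocallyNoetherian.component_noetherian ⟨U, hU⟩
  obtain ⟨T, hT⟩ := IsNoetherian.noetherian (I.ideal ⟨U, hU⟩)
  have hden : ∀ b ∈ T, ∃ t ∈ M, t * b ∈ Ideal.span {a} := fun b hb => by
    have hbI : b ∈ I.ideal ⟨U, hU⟩ := hT ▸ Submodule.subset_span hb
    have h1 : algebraMap Γ(X, U) (X.presheaf.stalk x) b ∈
        (Ideal.span {a}).map (algebraMap Γ(X, U) (X.presheaf.stalk x)) := by
      rw [Ideal.map_span, Set.image_singleton, ← hspan, ← hp]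
      exact Ideal.mem_map_of_mem _ hbI
    exact (IsLocalization.algebraMap_mem_map_algebraMap_iff M (X.presheaf.stalk x) _ b).1 h1
  choose t htM htb using hden
  set d := ∏ b ∈ T.attach, t b.1 b.2 with hd
  have hdM : d ∈ M := prod_mem fun b _ => htM _ _
  have hxd : x ∈ X.basicOpen d := by
    rw [Scheme.mem_basicOpen X d x hxU]
    exact IsLocalization.map_units (X.presheaf.stalk x) (⟨d, hdM⟩ : M)
  have hle := X.basicOpen_le d
  refine ⟨⟨X.basicOpen d, hU.basicOpen d⟩, hxd, (X.presheaf.map (homOfLE hle).op).hom a, ?_, ?_⟩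
  · have hinj' : Function.Injective (X.presheaf.germ (X.basicOpen d) x hxd).hom := by
      refine (injective_iff_map_eq_zero _).2 fun z hz => ?_
      have := hU.isLocalization_basicOpen d
      obtain ⟨⟨w, e⟩, hw⟩ := IsLocalization.surj (Submonoid.powers d) z
      have h1 : X.presheaf.germ U x hxU w = 0 := by
        rw [← X.presheaf.germ_res_apply (homOfLE hle) x hxd w]
        exact (congrArg (X.presheaf.germ (X.basicOpen d) x hxd).hom hw.symm).trans
          (by rw [map_mul, hz, zero_mul])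
      rw [hinj (h1.trans (map_zero _).symm), map_zero] at hw
      exact (IsLocalization.map_units _ e).mul_left_eq_zero.1 hw
    have : IsDomain Γ(X, X.basicOpen d) := hinj'.isDomain _
    refine mem_nonZeroDivisors_of_ne_zero fun h0 => hp0 ?_
    have h1 := congrArg (X.presheaf.germ (X.basicOpen d) x hxd).hom h0
    rw [map_zero] at h1
    have h2 : algebraMap Γ(X, U) (X.presheaf.stalk x) a = 0 :=
      (X.presheaf.germ_res_apply (homOfLE hle) x hxd a).symm.trans h1
    rw [h2, Ideal.span_singleton_zero, Ideal.span_singleton_eq_bot] at hspan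
    exact hspan
  · rw [← I.map_ideal (U := ⟨X.basicOpen d, hU.basicOpen d⟩) (V := ⟨U, hU⟩) hle]
    refine le_antisymm ?_ ?_
    · rw [← hT, Ideal.map_span, Ideal.span_le]
      rintro _ ⟨b, hb, rfl⟩
      obtain ⟨c, hc⟩ : t b hb ∣ d := Finset.dvd_prod_of_mem (fun b : {b // b ∈ T} => t b.1 b.2)
        (Finset.mem_attach _ ⟨b, hb⟩)
      have hdb : d * b ∈ Ideal.span {a} := by
        rw [hc, mul_comm (t b hb), mul_assoc]
        exact Ideal.mul_mem_left _ _ (htb b hb)
      have h1 := Ideal.mem_map_of_mem (X.presheaf.map (homOfLE hle).op).hom hdb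
      rw [map_mul, Ideal.map_span, Set.image_singleton] at h1
      have := hU.isLocalization_basicOpen d
      exact (Ideal.unit_mul_mem_iff_mem _ (IsLocalization.Away.algebraMap_isUnit d)).1 h1
    · rw [Ideal.span_singleton_le_iff_mem]
      exact Ideal.mem_map_of_mem _ haI

end Groth.Agent.Lib.BirMap96.PointCartier
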