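import Groth.Agent.H2.Rigid.GeomRegPt
import Groth.Agent.Lib.JacCrit.Regular
import Mathlib.RingTheory.Etale.Field
import Groth.Prelude.Def_CurvBase

/-!
# Regular points with separable residue field are smooth
-/

set_option autoImplicit false
set_option linter.style.haveILetI false
universe u

open CategoryTheory AlgebraicGeometry

namespace Groth.Agent.Lib.BirMap96.RegSepSmooth

open Groth.Agent.Lib

attribute [local instance] Curv2.stalkAlgebra Curv2.resAlgebra

theorem mem_smoothLocus (k : Type u) [Field k] (X : Scheme.{u}) [X.Over (Spec (CommRingCat.of k))]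
    [LocallyOfFinitePresentation (X ↘ Spec (CommRingCat.of k))] (x : X)
    [IsRegularLocalRing (X.presheaf.stalk x)] [Algebra.FormallySmooth k (X.residueField x)] :
    x ∈ (X ↘ Spec (CommRingCat.of k)).smoothLocus := by
  obtain ⟨V, hV, hxV, -⟩ := exists_isAffineOpen_mem_and_subset (X := X) (x := x) (U := ⊤) trivial
  let q := X ↘ Spec (CommRingCat.of k)
  let κ : k →+* Γ(X, V) :=
    (X.presheaf.map (homOfLE (le_top : V ≤ ⊤)).op).hom.comp (Coh.toGlobal q)
  letI : Algebra k Γ(X, V) := κ.toAlgebra
  have e0 : V ≤ q ⁻¹ᵁ ⊤ := fun _ _ => trivial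
  haveI : Algebra.FiniteType k Γ(X, V) := by
    have h1 : (q.appLE ⊤ V e0).hom.FiniteType :=
      HasRingHomProperty.appLE @LocallyOfFiniteType q inferInstance
        ⟨⊤, isAffineOpen_top _⟩ ⟨V, hV⟩ e0
    have h2 := RingHom.finiteType_respectsIso.2 (q.appLE ⊤ V e0).hom
      (Scheme.ΓSpecIso (CommRingCat.of k)).commRingCatIsoToRingEquiv.symm h1
    exact h2
  letI := X.presheaf.algebra_section_stalk ⟨x, hxV⟩
  haveI := hV.isLocalization_stalk ⟨x, hxV⟩
  haveI : IsScalarTower k Γ(X, V) (X.presheaf.stalk x) := IsScalarTower.of_algebraMap_eq fun a => by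
    change X.presheaf.germ ⊤ x trivial (Coh.toGlobal q a) =
      X.presheaf.germ V x hxV (X.presheaf.map (homOfLE le_top).op (Coh.toGlobal q a))
    exact (TopCat.Presheaf.germ_res_apply X.presheaf (homOfLE le_top) x hxV (Coh.toGlobal q a)).symm
  set P := (hV.primeIdealOf ⟨x, hxV⟩).asIdeal
  let e : Localization.AtPrime P ≃ₐ[Γ(X, V)] X.presheaf.stalk x :=
    IsLocalization.algEquiv P.primeCompl (Localization.AtPrime P) (X.presheaf.stalk x)
  let ek : Localization.AtPrime P ≃ₐ[k] X.presheaf.stalk x := e.restrictScalars k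
  haveI : IsRegularLocalRing (Localization.AtPrime P) := IsRegularLocalRing.of_ringEquiv e.symm.toRingEquiv
  let er : P.ResidueField ≃+* X.residueField x := IsLocalRing.ResidueField.mapEquiv e.toRingEquiv
  have her : ∀ a : k, er (algebraMap k P.ResidueField a) = algebraMap k (X.residueField x) a :=
    fun a => by
      rw [IsScalarTower.algebraMap_apply k (Localization.AtPrime P) P.ResidueField]
      change X.residue x (ek (algebraMap k (Localization.AtPrime P) a)) = _
      rw [AlgEquiv.commutes]
      rfl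
  haveI : Algebra.FormallySmooth k P.ResidueField :=
    Algebra.FormallySmooth.of_equiv (AlgEquiv.ofRingEquiv (f := er) her).symm
  haveI : Algebra.IsSmoothAt k P := JacCrit.Regular.isSmoothAt k P
  rw [Groth.Agent.H2.Rigid.GeomRegPt.mem_smoothLocus_iff k X x]
  have h : Algebra.FormallySmooth k (X.presheaf.stalk x) := Algebra.FormallySmooth.of_equiv ek
  rw [← Groth.Agent.H2.Rigid.GeomRegPt.algebra_eq k X x] at h
  exact h

end Groth.Agent.Lib.BirMap96.RegSepSmooth
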