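import Groth.Agent.Lib.Curves.SectionProduct
import Groth.Agent.Lib.Modules.DualBasis
import Groth.Agent.Lib.Exchange.Proper
import Groth.Agent.Lib.Perfect.Coherent
import Groth.Agent.Lib.TensorMod.LocFree
import Groth.Agent.Lib.Curves.HopfBound

/-!
# Products of sections of vector bundles on an integral proper variety
-/

set_option autoImplicit false
universe u

open CategoryTheory CategoryTheory.Limits AlgebraicGeometry Opposite TopologicalSpace
open Groth.Agent.Lib
open Groth.Agent.Lib.Curves.LES Groth.Agent.Lib.TensorMod.Basic Groth.Agent.Lib.Curves.SectionMult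
open Groth.Agent.Lib.TensorMod.Dual (rs rf rs_rs rs_smul)
open Groth.Agent.Lib.Modules.TensorSec (section_ext rs_zero)

noncomputable section

namespace Groth.Agent.Lib.BirMap96.SecProd

variable {X : Scheme.{u}} [IsIntegral X] {E : X.Modules}

/-- A global section of a module with dual bases vanishing on a nonempty open is zero. -/
theorem rs_injective (hE : Modules.DualBasis.HasDBases E) {W : X.Opens}
    (hW : (W : Set X).Nonempty) {t : Γ(E, ⊤)} (ht : rs E (le_top : W ≤ ⊤) t = 0) : t = 0 := by
  refine section_ext _ _ _ fun y _ => ?_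
  obtain ⟨U, n, hyU, ⟨b⟩⟩ := hE y
  refine ⟨U, le_top, hyU, ?_⟩
  rw [rs_zero, ← b.sum_eq U le_rfl (rs E le_top t)]
  refine Finset.sum_eq_zero fun i _ => ?_
  suffices h0 : (b.f i).app le_rfl (rs E le_top t) = 0 by rw [h0, zero_smul]
  have hne : ((W ⊓ U : X.Opens) : Set X).Nonempty :=
    nonempty_preirreducible_inter W.2 U.2 hW ⟨y, hyU⟩
  haveI : Nonempty (W ⊓ U : X.Opens) := hne.to_subtype
  refine map_injective_of_isIntegral X (homOfLE (inf_le_right : W ⊓ U ≤ U)) ?_
  rw [map_zero]
  refine ((b.f i).compat le_rfl (inf_le_right : W ⊓ U ≤ U) _).trans ?_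
  rw [rs_rs, ← rs_rs E (le_top : W ≤ ⊤) (inf_le_left : W ⊓ U ≤ W), ht, rs_zero, map_zero]

/-- A nonzero section of a module with dual bases is a monomorphism on an integral scheme. -/
theorem mono_section (hE : Modules.DualBasis.HasDBases E) {t : Γ(E, ⊤)} (ht : t ≠ 0) :
    Mono (Curves.Clifford.σ E t) := by
  rw [Modules.Stalk.mono_iff_app_injective]
  intro V
  rw [injective_iff_map_eq_zero]
  intro (r : Γ(X, V)) hr
  have hr' : r • rs E (le_top : V ≤ ⊤) t = 0 := by
    rw [← hr]
    refine (Modules.Free.unitHom_app E t V r).symm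
  refine section_ext (Coh.structureModule X) (show Γ(Coh.structureModule X, V) from r) 0
    fun x hx => ?_
  obtain ⟨W, n, hxW, hWV, ⟨b⟩⟩ := Modules.DualBasis.exists_dBasis_le hE hx
  refine ⟨W, hWV, hxW, ?_⟩
  rw [rs_zero]
  change rf hWV r = 0
  by_contra hr0
  have hne : (W : Set X).Nonempty := ⟨x, hxW⟩
  haveI : Nonempty W := hne.to_subtype
  haveI : IsDomain Γ(X, W) := IsIntegral.component_integral W
  apply ht
  refine rs_injective hE hne ?_
  rw [← b.sum_eq W le_rfl (rs E le_top t)]
  refine Finset.sum_eq_zero fun i _ => ?_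
  suffices h0 : (b.f i).app le_rfl (rs E le_top t) = 0 by rw [h0, zero_smul]
  have h1 := congrArg (fun z => (b.f i).app le_rfl (rs E hWV z)) hr'
  simp only [rs_smul, rs_rs, rs_zero, map_smul, map_zero, smul_eq_mul] at h1
  exact (mul_eq_zero.mp h1).resolve_left hr0

theorem mono_ν {L : X.Modules} (hL : Modules.DualBasis.HasDBases L)
    (hE : Modules.DualBasis.HasDBases E) {t : Γ(E, ⊤)} (ht : t ≠ 0) :
    Mono (ν (Curves.Clifford.σ E t) L) := by
  haveI := mono_section hE ht
  haveI : Mono (tmap (𝟙 L) (Curves.Clifford.σ E t)) := Modules.DualBasis.mono_tmap hL _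
  exact mono_comp _ _

open Groth.Agent.Lib.Curves in
theorem finrank_add_le (k : Type u) [Field k] [IsAlgClosed k]
    [X.Over (Spec (CommRingCat.of k))] [IsProper (X ↘ Spec (CommRingCat.of k))]
    {L L' : X.Modules} (hL : FlatMod.IsFinLocFree L) (hL' : FlatMod.IsFinLocFree L')
    (hs : Nontrivial (Coh.HH X L 0)) (hs' : Nontrivial (Coh.HH X L' 0)) :
    Module.finrank k (Coh.HH X L 0) + Module.finrank k (Coh.HH X L' 0) ≤
      Module.finrank k (Coh.HH X (CohB1.tensorMod L L') 0) + 1 := by
  letI := GlobalSections.secModule k L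
  letI := GlobalSections.secModule k L'
  have := _root_.ZarCoh.Exchange.Proper.finite_HH k L (Perfect.Coherent.isCoh_of_isFinLocFree hL) 0
  have := _root_.ZarCoh.Exchange.Proper.finite_HH k L' (Perfect.Coherent.isCoh_of_isFinLocFree hL') 0
  have := _root_.ZarCoh.Exchange.Proper.finite_HH k (CohB1.tensorMod L L')
    (Perfect.Coherent.isCoh_of_isFinLocFree (TensorMod.LocFree.isFinLocFree_tensorMod hL hL')) 0
  have : Module.Finite k (L.val.obj (op ⊤) : Type u) :=
    Module.Finite.equiv (GlobalSections.h0Linear k L)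
  have : Module.Finite k (L'.val.obj (op ⊤) : Type u) :=
    Module.Finite.equiv (GlobalSections.h0Linear k L')
  let θ := (rightUnit (Coh.structureModule X)).inv ≫ (leftUnit (Coh.structureModule X)).hom
  let m : (L.val.obj (op ⊤) : Type u) → (L'.val.obj (op ⊤) : Type u) →
      Coh.HH X (CohB1.tensorMod L L') 0 := fun t t' =>
    mapK k (ν (Clifford.σ L' t') L) 0 (Clifford.Φ k L 0 t (SectionProduct.oneClass X))
  have hm : ∀ t t', m t t' = mapK k (SectionProduct.ν' (Clifford.σ L t) L') 0
      (Clifford.Φ k L' 0 t' (mapK k θ 0 (SectionProduct.oneClass X))) := fun t t' => by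
    simp only [m, Clifford.Φ_apply, ← LinearMap.comp_apply, ← mapK_comp]
    rw [SectionProduct.interchange]
    simp only [θ, Category.assoc]
  let B : (L.val.obj (op ⊤) : Type u) →ₗ[k] (L'.val.obj (op ⊤) : Type u) →ₗ[k]
      Coh.HH X (CohB1.tensorMod L L') 0 :=
    LinearMap.mk₂ k m
      (fun a b t' => by simp only [m, map_add, LinearMap.add_apply])
      (fun c a t' => by simp only [m, map_smul, LinearMap.smul_apply])
      (fun t a b => by simp only [hm, map_add, LinearMap.add_apply])
      (fun c t a => by simp only [hm, map_smul, LinearMap.smul_apply])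
  have h := HopfBound.finrank_add_finrank_le B (Clifford.nontrivial_sections hs)
    (Clifford.nontrivial_sections hs') fun t t' h => by
      by_contra hc
      push Not at hc
      have := mono_ν (Modules.DualBasis.hasDBases_of_isFinLocFree hL)
        (Modules.DualBasis.hasDBases_of_isFinLocFree hL') hc.2
      have h' : Clifford.Φ k L 0 t (SectionProduct.oneClass X) = 0 :=
        mapK_injective_of_mono k (ν (Clifford.σ L' t') L) (h.trans (map_zero _).symm)
      apply hc.1
      rw [← SectionProduct.h0Equiv_section k L t]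
      exact (congrArg (GlobalSections.h0Equiv L) h').trans (map_zero _)
  rw [← (GlobalSections.h0Linear k L).finrank_eq, ← (GlobalSections.h0Linear k L').finrank_eq] at h
  exact h

end Groth.Agent.Lib.BirMap96.SecProd
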