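import Groth.Agent.Lib.BirMap96.DiffMono
import Groth.Agent.Lib.PBasis.FieldSmooth
import Groth.Agent.Lib.Kaehler.SmoothMono
import Groth.Agent.Lib.JacCrit.SmoothNhd
import Groth.Agent.Lib.SmoothLift.Formal
import Mathlib.AlgebraicGeometry.Geometrically.Reduced
import Mathlib.RingTheory.Nilpotent.GeometricallyReduced
import Mathlib.RingTheory.Localization.BaseChange

/-!
# Separable dominant morphisms are generically smooth, so pullback of differentials is injective
-/

set_option autoImplicit false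
set_option linter.style.haveILetI false
universe u

open CategoryTheory CategoryTheory.Limits AlgebraicGeometry Opposite TopologicalSpace TensorProduct
open Groth.Agent.Lib OmegaSh
open Groth.Agent.Lib.TensorMod.Dual (rs rf rs_rs rs_smul)
open Groth.Agent.Lib.Modules.TensorSec (section_ext rs_zero app_rs)

noncomputable section

namespace Groth.Agent.Lib.BirMap96.SepGeneric

variable {X Z : Scheme.{u}} [IsIntegral X] [IsIntegral Z] (f : X ⟶ Z)

/-- Geometrically reduced generic fibre: the extension of function fields is formally smooth. -/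
theorem formallySmooth_stalkMap (hη : f (genericPoint X) = genericPoint Z)
    (hsep : GeometricallyReduced (pullback.snd f (Z.fromSpecResidueField (genericPoint Z)))) :
    (f.stalkMap (genericPoint X)).hom.FormallySmooth := by
  rw [← hη] at hsep
  set ξ := genericPoint X with hξ
  set η := f ξ
  let A := Z.presheaf.stalk η
  let B := X.presheaf.stalk ξ
  have hA : IsField A := by
    change IsField (Z.presheaf.stalk η)
    rw [hη]
    exact Field.toIsField Z.functionField
  letI : Algebra A B := (f.stalkMap ξ).hom.toAlgebra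
  letI : Field A := hA.toField
  letI : Field B := (Field.toIsField X.functionField : IsField B).toField
  change Algebra.FormallySmooth A B
  rw [PBasis.FieldSmooth.formallySmooth_iff_isGeometricallyReduced, Algebra.isGeometricallyReduced_field_iff]
  let K := AlgebraicClosure A
  obtain ⟨V, hV, hηV, -⟩ := exists_isAffineOpen_mem_and_subset (show η ∈ (⊤ : Z.Opens) from trivial)
  obtain ⟨U, hU, hξU, hUV⟩ := exists_isAffineOpen_mem_and_subset (show ξ ∈ f ⁻¹ᵁ V from hηV)
  have e : U ≤ f ⁻¹ᵁ V := hUV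
  letI : Algebra Γ(Z, V) Γ(X, U) := (f.appLE V U e).hom.toAlgebra
  letI : Algebra Γ(Z, V) A := Z.presheaf.algebra_section_stalk ⟨η, hηV⟩
  haveI := hV.isLocalization_stalk ⟨η, hηV⟩
  letI : Algebra Γ(X, U) B := X.presheaf.algebra_section_stalk ⟨ξ, hξU⟩
  haveI := hU.isLocalization_stalk ⟨ξ, hξU⟩
  letI : Algebra Γ(Z, V) B := ((algebraMap Γ(X, U) B).comp (f.appLE V U e).hom).toAlgebra
  haveI : IsScalarTower Γ(Z, V) Γ(X, U) B := IsScalarTower.of_algebraMap_eq' rfl
  haveI : IsScalarTower Γ(Z, V) A B := IsScalarTower.of_algebraMap_eq fun a => by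
    change X.presheaf.germ U ξ hξU (f.appLE V U e a) =
      f.stalkMap ξ (Z.presheaf.germ V (f ξ) (e hξU) a)
    refine Eq.trans ?_ (Scheme.Hom.germ_stalkMap_apply f V ξ (e hξU) a).symm
    rw [Scheme.Hom.appLE, ConcreteCategory.comp_apply, TopCat.Presheaf.germ_res_apply]
  haveI : IsScalarTower Γ(Z, V) A K := inferInstance
  -- the geometric generic fibre over a chart is reduced
  have hbij : Function.Bijective (Z.residue η).hom :=
    ⟨RingHom.injective _, Z.residue_surjective η⟩
  let r : Z.residueField η →+* K :=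
    (algebraMap A K).comp (RingEquiv.ofBijective _ hbij).symm.toRingHom
  have hr : r.comp (Z.residue η).hom = algebraMap A K := RingHom.ext fun a => by
    change algebraMap A K ((RingEquiv.ofBijective _ hbij).symm ((Z.residue η).hom a)) = _
    rw [show (RingEquiv.ofBijective _ hbij).symm ((Z.residue η).hom a) = a from
      (RingEquiv.ofBijective _ hbij).symm_apply_apply a]
  let g : Spec (CommRingCat.of K) ⟶ Z := Spec.map (CommRingCat.ofHom r) ≫ Z.fromSpecResidueField η
  haveI hred : IsReduced (pullback f g) := by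
    let fst : pullback f g ⟶ pullback f (Z.fromSpecResidueField η) :=
      pullback.lift (pullback.fst f g) (pullback.snd f g ≫ Spec.map (CommRingCat.ofHom r))
        (by rw [Category.assoc]; exact pullback.condition)
    refine hsep.geometrically_isReduced (Spec.map (CommRingCat.ofHom r)) fst (pullback.snd f g) ?_
    refine IsPullback.of_right ?_ (pullback.lift_snd _ _ _)
      (IsPullback.of_hasPullback f (Z.fromSpecResidueField η))
    rw [pullback.lift_fst]
    exact IsPullback.of_hasPullback f g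
  have hg : g = Spec.map (CommRingCat.ofHom (algebraMap Γ(Z, V) K)) ≫ hV.fromSpec := by
    have h2 : Z.fromSpecResidueField η = Spec.map (Z.residue η) ≫ Z.fromSpecStalk η := rfl
    have h3 : CommRingCat.ofHom (algebraMap Γ(Z, V) K) =
        Z.presheaf.germ V η hηV ≫ Z.residue η ≫ CommRingCat.ofHom r := by
      ext a
      change algebraMap Γ(Z, V) K a = r ((Z.residue η).hom (algebraMap Γ(Z, V) A a))
      rw [IsScalarTower.algebraMap_apply Γ(Z, V) A K]
      exact (RingHom.congr_fun hr _).symm
    rw [h3, Spec.map_comp, Category.assoc]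
    erw [Spec.map_comp, Category.assoc]
    change Spec.map (CommRingCat.ofHom r) ≫ Z.fromSpecResidueField η = _
    rw [h2, ← hV.fromSpecStalk_eq_fromSpecStalk hηV]
    rfl
  haveI hred' : IsReduced (Spec (CommRingCat.of (K ⊗[Γ(Z, V)] Γ(X, U)))) := by
    let a := Spec.map (CommRingCat.ofHom (algebraMap Γ(Z, V) Γ(X, U)))
    let b := Spec.map (CommRingCat.ofHom (algebraMap Γ(Z, V) K))
    have sq : a ≫ hV.fromSpec = hU.fromSpec ≫ f := hV.SpecMap_appLE_fromSpec f hU e
    let j : pullback b a ⟶ pullback g f :=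
      pullback.map b a g f (𝟙 _) hU.fromSpec hV.fromSpec (by rw [Category.id_comp]; exact hg.symm) sq
    haveI : IsReduced (pullback g f) := isReduced_of_isOpenImmersion (pullbackSymmetry g f).hom
    haveI : IsReduced (pullback b a) := isReduced_of_isOpenImmersion j
    exact isReduced_of_isOpenImmersion (pullbackSpecIso Γ(Z, V) K Γ(X, U)).inv
  haveI hKU : _root_.IsReduced (K ⊗[Γ(Z, V)] Γ(X, U)) := (affine_isReduced_iff _).mp hred'
  let M := (hU.primeIdealOf ⟨ξ, hξU⟩).asIdeal.primeCompl
  let C := Localization (M.map (Algebra.TensorProduct.includeRight (R := Γ(Z, V)) (A := K) (B := Γ(X, U))))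
  haveI : _root_.IsReduced C := isReduced_localizationPreserves
    (M.map (Algebra.TensorProduct.includeRight (R := Γ(Z, V)) (A := K) (B := Γ(X, U)))) C hKU
  let e₁ : K ⊗[Γ(Z, V)] B ≃ₐ[K] C :=
    IsLocalization.tensorProductEquivOfMapIncludeRight Γ(Z, V) K M B C
  haveI : _root_.IsReduced (K ⊗[Γ(Z, V)] B) := isReduced_of_injective e₁.toRingHom e₁.injective
  haveI : TensorProduct.CompatibleSMul Γ(Z, V) A K B :=
    IsLocalization.tensorProduct_compatibleSMul (hV.primeIdealOf ⟨η, hηV⟩).asIdeal.primeCompl A K B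
  let e₂ : K ⊗[A] B ≃ₐ[K] K ⊗[Γ(Z, V)] B :=
    Algebra.TensorProduct.equivOfCompatibleSMul Γ(Z, V) A K K B
  exact isReduced_of_injective e₂.toRingHom e₂.injective

omit [IsIntegral Z] in
theorem mono_of_mono_pullback {E F : X.Modules} (c : E ⟶ F)
    (hE : Modules.DualBasis.HasDBases E) {W : X.Opens} (hW : (W : Set X).Nonempty)
    [Mono ((Scheme.Modules.pullback W.ι).map c)] : Mono c := by
  haveI : Mono ((Scheme.Modules.restrictFunctor W.ι).map c) := by
    have h := (Scheme.Modules.restrictFunctorIsoPullback W.ι).hom.naturality c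
    have h' : (Scheme.Modules.restrictFunctor W.ι).map c =
        ((Scheme.Modules.restrictFunctorIsoPullback W.ι).hom.app E ≫
          (Scheme.Modules.pullback W.ι).map c) ≫
          (Scheme.Modules.restrictFunctorIsoPullback W.ι).inv.app F := by
      rw [← h]; simp
    rw [h']
    infer_instance
  rw [Modules.Stalk.mono_iff_app_injective]
  intro V
  rw [injective_iff_map_eq_zero]
  intro r hr
  refine DiffMono.eq_zero_of_rs hE hW (V := V) ?_
  have hle : W.ι ''ᵁ (W.ι ⁻¹ᵁ V) ≤ V := W.ι.image_preimage_le V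
  have hle' : W ⊓ V ≤ W.ι ''ᵁ (W.ι ⁻¹ᵁ V) := fun z hz => ⟨⟨z, hz.1⟩, hz.2, rfl⟩
  have h1 : rs E hle r = 0 := by
    refine (Modules.Stalk.mono_iff_app_injective ((Scheme.Modules.restrictFunctor W.ι).map c)).mp
      inferInstance (W.ι ⁻¹ᵁ V) (Eq.trans ?_ (map_zero _).symm)
    change c.app (W.ι ''ᵁ (W.ι ⁻¹ᵁ V)) (E.presheaf.map (homOfLE hle).op r) = 0
    refine (app_rs c hle r).trans ?_
    rw [hr, rs_zero]
  rw [← rs_rs E hle hle', h1, rs_zero]

theorem mono_compat {S : Scheme.{u}} {g : Z ⟶ S} {h : X ⟶ S} (w : f ≫ g = h)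
    [LocallyOfFinitePresentation f] (hξ : genericPoint X ∈ f.smoothLocus)
    {ΩZ : Z.Modules} {dZ : Der g ΩZ} (hZ : IsUniversal dZ) (hfree : FlatMod.IsFinLocFree ΩZ)
    {ΩX : X.Modules} {dX : Der h ΩX} (hX : IsUniversal dX)
    (c : (Scheme.Modules.pullback f).obj ΩZ ⟶ ΩX) (hc : IsDiffCompat f dZ dX c) : Mono c := by
  obtain ⟨W, hW, hsm⟩ := (JacCrit.SmoothNhd.exists_smooth_nhd_iff f (genericPoint X)).mpr hξ
  have sqι : (W.ι ≫ h) ≫ 𝟙 S = W.ι ≫ h := Category.comp_id _
  obtain ⟨ΩW, dW, hdW⟩ := Kaehler.Exists.exists_isUniversal (W.ι ≫ h)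
  obtain ⟨c₁, hc₁⟩ := (Kaehler.Basic.existsUnique_diffCompat sqι hX dW).exists
  haveI := Kaehler.BaseChange.isIso_of_etale sqι hX hdW c₁ hc₁
  haveI : Smooth (W.ι ≫ f) := hsm
  have hmono := Kaehler.SmoothMono.mono_diffCompat (W.ι ≫ f) (by rw [Category.assoc, w])
    (SmoothLift.Formal.isFormallySmoothHom_of_smooth _) hZ hdW _ (Kaehler.Comp.isDiffCompat_comp hc hc₁)
  haveI : Mono ((Scheme.Modules.pullback W.ι).map c ≫ c₁) := by
    have h0 := hmono
    rw [← Iso.hom_inv_id_app_assoc (Scheme.Modules.pullbackComp W.ι f) ΩZ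
      ((Scheme.Modules.pullback W.ι).map c ≫ c₁)]
    exact mono_comp _ _
  haveI : Mono ((Scheme.Modules.pullback W.ι).map c) := mono_of_mono _ c₁
  exact mono_of_mono_pullback c
    (Modules.DualBasis.hasDBases_of_isFinLocFree (TensorMod.LocFree.isFinLocFree_pullback f hfree))
    ⟨_, hW⟩

end Groth.Agent.Lib.BirMap96.SepGeneric
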